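import Groth.Agent.Lib.SBAut.LineMap
import Mathlib.LinearAlgebra.Matrix.NonsingularInverse

/-!
# Natural automorphisms of the functor of lines are linear
-/

universe u

set_option autoImplicit false
set_option linter.style.haveILetI false

open MvPolynomial

namespace Groth.Agent.Lib.SBAut

variable {K : Type u} [Field K] {n : ℕ}

/-- The action of a matrix over `K` on `R ^ n`. -/
noncomputable def act (g : Matrix (Fin n) (Fin n) K) (R : Type u) [CommRing R] [Algebra K R] :
    (Fin n → R) →ₗ[R] (Fin n → R) :=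
  Matrix.mulVecLin (g.map (algebraMap K R))

theorem act_apply (g : Matrix (Fin n) (Fin n) K) (R : Type u) [CommRing R] [Algebra K R]
    (v : Fin n → R) (i : Fin n) : act g R v i = ∑ j, algebraMap K R (g i j) * v j := rfl

theorem comp_act (g : Matrix (Fin n) (Fin n) K) {R S : Type u} [CommRing R] [Algebra K R]
    [CommRing S] [Algebra K S] (φ : R →ₐ[K] S) (v : Fin n → R) :
    φ.toRingHom ∘ act g R v = act g S (φ.toRingHom ∘ v) := by
  funext i
  simp [act_apply, map_sum]

theorem bc_map_act (g : Matrix (Fin n) (Fin n) K) {R S : Type u} [CommRing R] [Algebra K R]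
    [CommRing S] [Algebra K S] (φ : R →ₐ[K] S) (L : Submodule R (Fin n → R)) :
    bc φ.toRingHom (L.map (act g R)) = (bc φ.toRingHom L).map (act g S) := by
  rw [bc, bc, Submodule.map_span]
  congr 1
  ext x
  simp only [Set.mem_image, SetLike.mem_coe, Submodule.mem_map]
  constructor
  · rintro ⟨_, ⟨w, hw, rfl⟩, rfl⟩
    exact ⟨_, ⟨w, hw, rfl⟩, (comp_act g φ w).symm⟩
  · rintro ⟨_, ⟨w, hw, rfl⟩, rfl⟩
    exact ⟨_, ⟨w, hw, rfl⟩, comp_act g φ w⟩

theorem eq_sum_coeff {p : MvPolynomial (Fin n) K} (hp : p.IsHomogeneous 1) :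
    p = ∑ j, C (p.coeff (Finsupp.single j 1)) * X j := by
  classical
  ext d
  simp only [MvPolynomial.coeff_sum, coeff_C_mul, coeff_X', mul_ite, mul_one, mul_zero]
  by_cases h : ∃ j, Finsupp.single j 1 = d
  · obtain ⟨j, rfl⟩ := h
    rw [Finset.sum_eq_single j]
    · rw [if_pos rfl]
    · intro l _ hl
      rw [if_neg (fun e => hl (Finsupp.single_left_inj one_ne_zero |>.mp e))]
    · simp
  · push Not at h
    rw [Finset.sum_eq_zero fun j _ => if_neg (h j)]
    by_contra hne
    have hd : d.degree = 1 := by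
      by_contra hd
      exact hne (hp.coeff_eq_zero hd)
    obtain ⟨j, hj⟩ : ∃ j, d j ≠ 0 := by
      by_contra h0
      push Not at h0
      rw [show d = 0 from Finsupp.ext h0] at hd
      simp at hd
    refine h j (Finsupp.ext fun l => ?_)
    have hle : d j ≤ 1 := hd ▸ Finsupp.le_degree j d
    by_cases hl : l = j
    · subst hl; rw [Finsupp.single_eq_same]; omega
    · rw [Finsupp.single_eq_of_ne hl]
      by_contra h0
      have : d l + d j ≤ d.degree := by
        rw [Finsupp.degree_eq_sum, ← Finset.sum_pair hl]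
        exact Finset.sum_le_sum_of_subset (Finset.subset_univ _)
      omega

theorem exists_matrix {Φ Ψ : LineMap K n} (hn : 2 ≤ n)
    (h : ∀ (R : Type u) [CommRing R] [Algebra K R] (L : Submodule R (Fin n → R)),
      IsLine L → Ψ.app R (Φ.app R L) = L) :
    ∃ g : (Matrix (Fin n) (Fin n) K)ˣ, ∀ (R : Type u) [CommRing R] [Algebra K R] (v : Fin n → R) (i : Fin n),
      IsUnit (v i) → Φ.app R (Submodule.span R {v}) =
        Submodule.span R {act (g : Matrix (Fin n) (Fin n) K) R v} := by
  obtain ⟨f, hfp, hf0, hf⟩ := exists_rep Φ hn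
  obtain ⟨f', hfp', hf0', hf'⟩ := exists_rep Ψ hn
  obtain ⟨d, hd⟩ := rep_isHomogeneous Φ hn hfp hf0 hf
  obtain ⟨d', hd'⟩ := rep_isHomogeneous Ψ hn hfp' hf0' hf'
  let P := MvPolynomial (Fin n) K
  let F := FractionRing P
  let ι : P →ₐ[K] F := IsScalarTower.toAlgHom K P F
  have hι : Function.Injective ι := IsFractionRing.injective P F
  let c : P →ₐ[K] P := MvPolynomial.aeval f
  have hcX : ∀ l, c (X l) = f l := fun l => aeval_X f l
  -- over a local ring the composite is the identity
  have hloc : ∀ (S : Type u) [CommRing S] [Algebra K S] [IsLocalRing S] (a : P →ₐ[K] S) (i : Fin n),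
      IsUnit (a (X i)) → Submodule.span S {fun l => a (c (f' l))} = Submodule.span S {fun l => a (X l)} := by
    intro S _ _ _ a i hi
    have hl : IsLine (Submodule.span S {fun l => a (X l)}) := isLine_of_isUnit _ i hi
    have h1 := hf S a i hi
    have hl2 := h1 ▸ Φ.isLine S _ hl
    obtain ⟨v, j, hv, hve⟩ := exists_eq_span (by omega) hl2
    obtain ⟨r, hr⟩ := Submodule.mem_span_singleton.mp
      (hve ▸ Submodule.mem_span_singleton_self v : v ∈ Submodule.span S {fun l => a (f l)})
    have hj : IsUnit (a (f j)) := isUnit_of_mul_isUnit_right (x := r) (by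
      have := congrFun hr j
      rw [Pi.smul_apply, smul_eq_mul] at this
      rw [this]; exact hv)
    have h2 := hf' S (a.comp c) j (by rw [AlgHom.comp_apply, hcX]; exact hj)
    have h3 := h S _ hl
    rw [h1] at h3
    rw [show (fun l => (a.comp c) (X l)) = fun l => a (f l) from funext fun l => congrArg a (hcX l), h3] at h2
    exact h2.symm
  let i₁ : Fin n := ⟨0, by omega⟩
  have hx : ι (X i₁) ≠ 0 := fun e => X_ne_zero i₁ (hι (e.trans (map_zero ι).symm))
  have hF := hloc F ι i₁ (isUnit_iff_ne_zero.mpr hx)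
  obtain ⟨r, hr⟩ := Submodule.mem_span_singleton.mp
    (hF ▸ Submodule.mem_span_singleton_self _ : (fun l => ι (c (f' l))) ∈ Submodule.span F {fun l => ι (X l)})
  obtain ⟨q, hq⟩ := exists_eq_smul (prim_X hn) (w := fun l => c (f' l)) (r := r) fun l => (congrFun hr l).symm
  have hq0 : q ≠ 0 := by
    rintro rfl
    have := hF ▸ Submodule.mem_span_singleton_self (R := F) (fun l => ι (X l))
    obtain ⟨t, ht⟩ := Submodule.mem_span_singleton.mp this
    exact hx (by
      have := congrFun ht i₁
      simpa [hq i₁] using this.symm)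
  have hqu : IsUnit q := by
    have hi : ∀ i : Fin n, ∃ m, q ∣ (X i : P) ^ m := by
      intro i
      let R := Localization.Away (X i : P)
      have hu : IsUnit (algebraMap P R q) := by
        by_contra hnu
        obtain ⟨M, hM, hqM⟩ := exists_max_ideal_of_mem_nonunits hnu
        let S := Localization.AtPrime M
        let a : P →ₐ[K] S := (IsScalarTower.toAlgHom K R S).comp (IsScalarTower.toAlgHom K P R)
        have hai : IsUnit (a (X i)) := (IsLocalization.Away.algebraMap_isUnit (X i : P)).map (algebraMap R S)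
        have hm := hloc S a i hai
        obtain ⟨t, ht⟩ := Submodule.mem_span_singleton.mp
          (hm.symm ▸ Submodule.mem_span_singleton_self _ :
            (fun l => a (X l)) ∈ Submodule.span S {fun l => a (c (f' l))})
        have hti : t * a (c (f' i)) = a (X i) := congrFun ht i
        rw [hq i, map_mul, ← mul_assoc] at hti
        have : IsUnit (t * a q) := isUnit_of_mul_isUnit_left (y := a (X i)) (by rw [hti]; exact hai)
        have hMu : IsUnit (algebraMap R S (algebraMap P R q)) := isUnit_of_mul_isUnit_right this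
        exact (IsLocalization.AtPrime.isUnit_to_map_iff S M _).mp hMu hqM
      obtain ⟨z, hz⟩ := hu.exists_right_inv
      obtain ⟨⟨p, s⟩, hps⟩ := IsLocalization.surj (Submonoid.powers (X i : P)) z
      obtain ⟨m, hm⟩ := s.2
      refine ⟨m, p, IsLocalization.injective R (Submonoid.powers_le.mpr
        (mem_nonZeroDivisors_of_ne_zero (X_ne_zero i))) ?_⟩
      rw [map_mul, show (X i : P) ^ m = (s : P) from hm, ← hps, ← mul_assoc, hz, one_mul]
    obtain ⟨m, hm⟩ := hi ⟨0, by omega⟩
    obtain ⟨m', hm'⟩ := hi ⟨1, by omega⟩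
    obtain ⟨e, _, he⟩ := (dvd_prime_pow (MvPolynomial.X_prime (i := (⟨0, by omega⟩ : Fin n))) m).mp hm
    rcases e.eq_zero_or_pos with rfl | he'
    · rw [pow_zero] at he; exact associated_one_iff_isUnit.mp he
    · have := MvPolynomial.X_prime.dvd_of_dvd_pow (((dvd_pow_self _ he'.ne').trans he.symm.dvd).trans hm')
      simp [MvPolynomial.X_dvd_X] at this
  obtain ⟨hq1, hq2⟩ := MvPolynomial.isUnit_iff_totalDegree_of_isReduced.mp hqu
  obtain ⟨a, rfl⟩ : ∃ a, q = C a := ⟨_, totalDegree_eq_zero_iff_eq_C.mp hq2⟩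
  have ha : a ≠ 0 := fun e => hq0 (by rw [e, map_zero])
  have hdd : d * d' = 1 := by
    refine MvPolynomial.IsHomogeneous.inj_right (φ := c (f' i₁)) ((hd' i₁).aeval f hd) ?_ ?_
    · rw [hq i₁]; exact isHomogeneous_C_mul_X a i₁
    · rw [hq i₁]; exact mul_ne_zero hq0 (X_ne_zero i₁)
  obtain ⟨rfl, rfl⟩ : d = 1 ∧ d' = 1 := ⟨Nat.eq_one_of_mul_eq_one_right hdd, Nat.eq_one_of_mul_eq_one_left hdd⟩
  let g : Matrix (Fin n) (Fin n) K := Matrix.of fun i j => (f i).coeff (Finsupp.single j 1)
  let g' : Matrix (Fin n) (Fin n) K := Matrix.of fun i j => (f' i).coeff (Finsupp.single j 1)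
  have hgg : (a⁻¹ • g') * g = 1 := by
    rw [Matrix.smul_mul]
    ext i j
    have h1 : c (f' i) = ∑ l, C (g' i l) * f l := by
      conv_lhs => rw [eq_sum_coeff (hd' i)]
      simp only [map_sum, map_mul, hcX]
      refine Finset.sum_congr rfl fun l _ => ?_
      rw [show c (C _) = C _ from aeval_C f _]
      rfl
    have h2 : (∑ l, g' i l * g l j) = a * if Finsupp.single i 1 = Finsupp.single j 1 then 1 else 0 := by
      have := congrArg (MvPolynomial.coeff (Finsupp.single j 1)) (h1.symm.trans (hq i))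
      rw [MvPolynomial.coeff_sum, coeff_C_mul, coeff_X'] at this
      rw [← this]
      exact Finset.sum_congr rfl fun l _ => (coeff_C_mul _ _ _).symm
    rw [Matrix.smul_apply, Matrix.mul_apply, Matrix.one_apply, smul_eq_mul]
    refine (congrArg (a⁻¹ * ·) h2).trans ?_
    rw [← mul_assoc, inv_mul_cancel₀ ha, one_mul]
    simp [Finsupp.single_left_inj, eq_comm]
  refine ⟨⟨g, a⁻¹ • g', mul_eq_one_comm.mp hgg, hgg⟩, fun R _ _ v i hi => ?_⟩
  have hv := hf R (MvPolynomial.aeval v) i (by rw [aeval_X]; exact hi)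
  simp only [aeval_X] at hv
  rw [hv]
  congr 2
  funext l
  rw [act_apply]
  conv_lhs => rw [eq_sum_coeff (hd l)]
  simp [g]

/-- A natural automorphism of the functor of lines is given by an invertible matrix. -/
theorem exists_gl {Φ Ψ : LineMap K n} (hn : 0 < n)
    (h : ∀ (R : Type u) [CommRing R] [Algebra K R] (L : Submodule R (Fin n → R)),
      IsLine L → Ψ.app R (Φ.app R L) = L) :
    ∃ g : (Matrix (Fin n) (Fin n) K)ˣ, ∀ (R : Type u) [CommRing R] [Algebra K R] (L : Submodule R (Fin n → R)),
      IsLine L → Φ.app R L = L.map (act (g : Matrix (Fin n) (Fin n) K) R) := by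
  by_cases hn2 : n ≤ 1
  · refine ⟨1, fun R _ _ L hL => ?_⟩
    rw [eq_top_of_le_one hn2 (Φ.isLine R L hL), eq_top_of_le_one hn2 hL, Submodule.map_top, eq_comm,
      LinearMap.range_eq_top]
    intro v
    exact ⟨v, by simp [act]⟩
  obtain ⟨g, hg⟩ := exists_matrix (Φ := Φ) (by omega) h
  refine ⟨g, fun R _ _ L hL => eq_of_localization fun P _ => ?_⟩
  let S := Localization.AtPrime P
  let φ : R →ₐ[K] S := IsScalarTower.toAlgHom K R S
  show bc φ.toRingHom _ = bc φ.toRingHom _
  obtain ⟨v, i, hi, hv⟩ := exists_eq_span hn (isLine_bc φ.toRingHom hL)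
  rw [← Φ.nat R S φ L hL, bc_map_act, hv, hg S v i hi, Submodule.map_span, Set.image_singleton]

end Groth.Agent.Lib.SBAut
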