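import Groth.Agent.Lib.SBAut.Ideals
import Groth.Agent.Lib.SBAut.LineAut
import Mathlib.RingTheory.MatrixAlgebra
import Mathlib.LinearAlgebra.Quotient.Pi

/-!
# Left ideals of a split algebra and lines
-/

universe u

set_option autoImplicit false
set_option linter.style.haveILetI false

open scoped TensorProduct

namespace Groth.Agent.Lib.SBAut

section Matrix

variable {R : Type u} [CommRing R] {n : ℕ}

local notation "Mat" R => Matrix (Fin n) (Fin n) R

/-- Matrices with all rows in `L`. -/
def rowsIn (L : Submodule R (Fin n → R)) : Submodule R (Mat R) where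
  carrier := {M | ∀ i, M i ∈ L}
  add_mem' := fun hx hy i => L.add_mem (hx i) (hy i)
  zero_mem' := fun _ => L.zero_mem
  smul_mem' := fun c _ hx i => L.smul_mem c (hx i)

theorem mem_rowsIn {L : Submodule R (Fin n → R)} {M : Mat R} : M ∈ rowsIn L ↔ ∀ i, M i ∈ L := Iff.rfl

theorem rowsIn_left (L : Submodule R (Fin n → R)) (a : Mat R) {M : Mat R} (hM : M ∈ rowsIn L) :
    a * M ∈ rowsIn L := fun i => by
  rw [show (a * M) i = ∑ j, a i j • M j from funext fun l => by
    simp [Matrix.mul_apply, Finset.sum_apply]]
  exact L.sum_mem fun j _ => L.smul_mem _ (hM j)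

/-- The matrix with one nonzero row. -/
def oneRow (i : Fin n) : (Fin n → R) →ₗ[R] (Mat R) where
  toFun v := Matrix.of fun j => if j = i then v else 0
  map_add' x y := by ext j l; by_cases h : j = i <;> simp [h]
  map_smul' c x := by ext j l; by_cases h : j = i <;> simp [h]

theorem oneRow_apply (i j : Fin n) (v : Fin n → R) : oneRow i v j = if j = i then v else 0 := rfl

theorem oneRow_row (i j : Fin n) (M : Mat R) :
    oneRow i (M j) = Matrix.single i j (1 : R) * M := by
  ext a b
  by_cases h : a = i
  · subst h; simp [oneRow_apply]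
  · simp [oneRow_apply, h]

theorem eq_rowsIn (i₀ : Fin n) {N : Submodule R (Mat R)} (hN : ∀ a x, x ∈ N → a * x ∈ N) :
    rowsIn (N.comap (oneRow i₀)) = N := by
  apply le_antisymm
  · intro M hM
    rw [show M = ∑ i, Matrix.single i i₀ (1 : R) * oneRow i₀ (M i) by
      ext a b
      rw [Matrix.sum_apply, Finset.sum_eq_single a]
      · simp [oneRow_apply]
      · intro i _ hi; simp [hi.symm]
      · simp]
    exact N.sum_mem fun i _ => hN _ _ (hM i)
  · intro M hM i
    rw [Submodule.mem_comap, oneRow_row]
    exact hN _ _ hM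

theorem comap_rowsIn (i₀ : Fin n) (L : Submodule R (Fin n → R)) :
    (rowsIn L).comap (oneRow i₀) = L := by
  ext v
  refine ⟨fun h => by simpa [oneRow_apply] using h i₀, fun h i => ?_⟩
  rw [oneRow_apply]
  by_cases hi : i = i₀
  · rw [if_pos hi]; exact h
  · rw [if_neg hi]; exact L.zero_mem

/-- The quotient of matrices by `rowsIn L`. -/
noncomputable def quotRows (L : Submodule R (Fin n → R)) :
    ((Mat R) ⧸ rowsIn L) ≃ₗ[R] (Fin n → (Fin n → R) ⧸ L) :=
  let q : (Mat R) →ₗ[R] (Fin n → (Fin n → R) ⧸ L) :=
    { toFun := fun M i => L.mkQ (M i)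
      map_add' := fun x y => funext fun i => map_add L.mkQ (x i) (y i)
      map_smul' := fun c x => funext fun i => map_smul L.mkQ c (x i) }
  have hq : Function.Surjective q := fun w => by
    choose v hv using fun i => L.mkQ_surjective (w i)
    exact ⟨Matrix.of v, funext hv⟩
  have hker : rowsIn L = LinearMap.ker q := by
    ext M
    simp only [mem_rowsIn, LinearMap.mem_ker, funext_iff]
    exact forall_congr' fun i => (Submodule.Quotient.mk_eq_zero L).symm
  (Submodule.quotEquivOfEq _ _ hker).trans (q.quotKerEquivOfSurjective hq)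

end Matrix

variable {k : Type u} [Field k] {A : Type u} [Ring A] [Algebra k A]
  {K : Type u} [Field K] [Algebra k K] {n : ℕ}

section Equiv

variable (ψ : K ⊗[k] A ≃ₐ[K] Matrix (Fin n) (Fin n) K)
  (R : Type u) [CommRing R] [Algebra K R] [Algebra k R] [IsScalarTower k K R]

/-- The splitting over a `K`-algebra, as a homomorphism. -/
noncomputable def psiHom : R ⊗[k] A →ₐ[R] Matrix (Fin n) (Fin n) R :=
  Algebra.TensorProduct.lift (Algebra.ofId R _)
    ((IsScalarTower.toAlgHom k K R).mapMatrix.comp
      ((ψ.toAlgHom.restrictScalars k).comp Algebra.TensorProduct.includeRight))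
    fun r _ => Algebra.commute_algebraMap_left r _

theorem psiHom_tmul (r : R) (a : A) :
    psiHom ψ R (r ⊗ₜ a) = r • (ψ (1 ⊗ₜ a)).map (algebraMap K R) := by
  refine (Algebra.TensorProduct.lift_tmul _ _ _ r a).trans ?_
  rw [Algebra.smul_def]
  rfl

theorem psiHom_bijective : Function.Bijective (psiHom ψ R) := by
  let e : R ⊗[k] A ≃ₗ[R] Matrix (Fin n) (Fin n) R :=
    ((TensorProduct.AlgebraTensorModule.cancelBaseChange k K R R A).symm.trans
      (TensorProduct.AlgebraTensorModule.congr (LinearEquiv.refl R R) ψ.toLinearEquiv)).trans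
      { (matrixEquivTensor (Fin n) K R).symm with
        map_smul' := fun c x => by
          induction x using TensorProduct.induction_on with
          | zero => simp
          | tmul s M =>
            ext i j
            simp [TensorProduct.smul_tmul', matrixEquivTensor_apply_symm, mul_assoc]
          | add x y hx hy => simp_all [smul_add] }
  have : ⇑(psiHom ψ R) = e := funext fun x => by
    induction x using TensorProduct.induction_on with
    | zero => simp
    | tmul r a =>
      rw [psiHom_tmul]
      ext i j
      simp [e, matrixEquivTensor_apply_symm]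
    | add x y hx hy => rw [map_add, map_add, hx, hy]
  rw [this]
  exact e.bijective

/-- The splitting over a `K`-algebra. -/
noncomputable def psi : R ⊗[k] A ≃ₐ[R] Matrix (Fin n) (Fin n) R :=
  AlgEquiv.ofBijective (psiHom ψ R) (psiHom_bijective ψ R)

theorem psi_tmul (r : R) (a : A) :
    psi ψ R (r ⊗ₜ a) = r • (ψ (1 ⊗ₜ a)).map (algebraMap K R) :=
  psiHom_tmul ψ R r a

theorem psi_incl {S : Type u} [CommRing S] [Algebra K S] [Algebra k S] [IsScalarTower k K S]
    (φ : R →ₐ[K] S) (x : R ⊗[k] A) :
    psi ψ S (incl A (φ.restrictScalars k) x) = (psi ψ R x).map φ := by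
  induction x using TensorProduct.induction_on with
  | zero => simp
  | tmul r a =>
    rw [incl_tmul, psi_tmul, psi_tmul]
    ext i j
    simp
  | add x y hx hy =>
    rw [map_add, map_add, hx, hy, map_add]
    ext i j
    simp

theorem psi_self (x : K ⊗[k] A) : psi ψ K x = ψ x := by
  induction x using TensorProduct.induction_on with
  | zero => simp
  | tmul r a =>
    rw [psi_tmul]
    rw [show r ⊗ₜ[k] a = r • ((1 : K) ⊗ₜ[k] a) by rw [TensorProduct.smul_tmul', smul_eq_mul, mul_one],
      map_smul]
    ext i j
    simp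
  | add x y hx hy => rw [map_add, map_add, hx, hy]

end Equiv

end Groth.Agent.Lib.SBAut
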