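import Groth.Agent.Lib.SBAut.Split
import Groth.Agent.Lib.CSA.SplittingModule
import Groth.Agent.S0201

/-!
# Natural automorphisms of the functor of left ideals of a central simple algebra
-/

universe u

set_option autoImplicit false
set_option linter.style.haveILetI false

open scoped TensorProduct

namespace Groth.Agent.Lib.SBAut

variable {k : Type u} [Field k] {A : Type u} [Ring A] [Algebra k A]
  {K : Type u} [Field K] [Algebra k K] {n : ℕ}

theorem one_tmul_incl {R S : Type u} [CommRing R] [Algebra k R] [CommRing S] [Algebra k S]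
    (φ : R →ₐ[k] S) (a : A) : incl A φ ((1 : R) ⊗ₜ[k] a) = (1 : S) ⊗ₜ[k] a := by
  rw [incl_tmul, map_one]

theorem eq_smul_of_equiv {S B C : Type*} [CommRing S] [Ring B] [Algebra S B] [Ring C] [Algebra S C]
    (e : B ≃ₐ[S] C) (u w : Bˣ) (t : S) (h : e ((u : B) * ↑w⁻¹) = t • 1) : (u : B) = t • (w : B) := by
  have h1 : (u : B) * ↑w⁻¹ = t • (1 : B) := e.injective (by rw [h, map_smul, map_one])
  calc (u : B) = (u : B) * ↑w⁻¹ * ↑w := by rw [mul_assoc, Units.inv_mul, mul_one]
    _ = t • (w : B) := by rw [h1, smul_mul_assoc, one_mul]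

theorem eq_smul_of_mulR_eq (ψ : K ⊗[k] A ≃ₐ[K] Matrix (Fin n) (Fin n) K) (hn : 0 < n)
    {S : Type u} [CommRing S] [Algebra k S] (φ : K →ₐ[k] S) {u w : (S ⊗[k] A)ˣ}
    (h : ∀ N : BrSev.SBSet k A (n * n - n) S,
      mulR N.1.toSubmodule (u : S ⊗[k] A) = mulR N.1.toSubmodule (w : S ⊗[k] A)) :
    ∃ s : S, (u : S ⊗[k] A) = s • (w : S ⊗[k] A) := by
  letI := φ.toAlgebra
  haveI : IsScalarTower k K S := IsScalarTower.of_algebraMap_eq' φ.comp_algebraMap.symm
  let U : Matrix (Fin n) (Fin n) S := psi ψ S ((u : S ⊗[k] A) * ↑w⁻¹)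
  have hv : ∀ (v : Fin n → S) (i : Fin n), IsUnit (v i) → ∃ c : S, c • v = Matrix.vecMul v U := by
    intro v i hi
    let N := ofLSet ψ S _ (isLine_of_isUnit v i hi)
    have hx : (psi ψ S).symm (oneRow ⟨0, hn⟩ v) * ((u : S ⊗[k] A) * ↑w⁻¹) ∈ N.1.toSubmodule := by
      have hN : mulR N.1.toSubmodule ((u : S ⊗[k] A) * ↑w⁻¹) = N.1.toSubmodule := by
        rw [← mulR_mulR, h N, mulR_mulR, Units.mul_inv, mulR_one]
      refine hN ▸ Submodule.mem_map_of_mem (f := LinearMap.mulRight S ((u : S ⊗[k] A) * ↑w⁻¹)) ?_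
      show psi ψ S ((psi ψ S).symm (oneRow ⟨0, hn⟩ v)) ∈ rowsIn (Submodule.span S {v})
      rw [AlgEquiv.apply_symm_apply]
      intro j
      rw [oneRow_apply]
      split
      · exact Submodule.mem_span_singleton_self v
      · exact Submodule.zero_mem _
    have h0 : psi ψ S ((psi ψ S).symm (oneRow ⟨0, hn⟩ v) * ((u : S ⊗[k] A) * ↑w⁻¹)) ⟨0, hn⟩ ∈
        Submodule.span S {v} := hx _
    rw [map_mul, AlgEquiv.apply_symm_apply] at h0
    obtain ⟨c, hc⟩ := Submodule.mem_span_singleton.mp h0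
    refine ⟨c, hc.trans (funext fun j => ?_)⟩
    simp [Matrix.mul_apply, oneRow_apply, Matrix.vecMul, dotProduct, U]
  have hoff : ∀ i j, i ≠ j → U i j = 0 := by
    intro i j hij
    obtain ⟨c, hc⟩ := hv (Pi.single i 1) i (by simp)
    have := congrFun hc j
    simpa [Pi.single_eq_of_ne hij.symm, Matrix.single_one_vecMul] using this.symm
  obtain ⟨t, ht⟩ := hv (fun _ => 1) ⟨0, hn⟩ isUnit_one
  have hdiag : ∀ j, U j j = t := by
    intro j
    have := congrFun ht j
    simp only [Pi.smul_apply, smul_eq_mul, mul_one, Matrix.vecMul, dotProduct, one_mul] at this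
    rw [this, Finset.sum_eq_single j (fun i _ hi => hoff i j hi) (fun h => absurd (Finset.mem_univ j) h)]
  have hU : U = t • (1 : Matrix (Fin n) (Fin n) S) := by
    ext i j
    by_cases hij : i = j
    · subst hij; simp [hdiag i]
    · simp [hoff i j hij, hij]
  exact ⟨t, eq_smul_of_equiv (psi ψ S) u w t hU⟩

theorem le_of_bcT_le {L : Type u} [Field L] [Algebra k L] {R : Type u} [CommRing R] [Algebra k R]
    {P Q : Submodule R (R ⊗[k] A)}
    (h : bcT (Algebra.TensorProduct.includeLeft : R →ₐ[k] R ⊗[k] L) P ≤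
      bcT (Algebra.TensorProduct.includeLeft : R →ₐ[k] R ⊗[k] L) Q) : P ≤ Q := by
  obtain ⟨f, hf⟩ := Module.Projective.exists_dual_ne_zero k (one_ne_zero : (1 : L) ≠ 0)
  let r : R ⊗[k] L →ₗ[R] R :=
    (f 1)⁻¹ • (TensorProduct.AlgebraTensorModule.rid k R R).toLinearMap ∘ₗ f.baseChange R
  have hr : ∀ x : R, r (x ⊗ₜ 1) = x := fun x => by
    simp [r, smul_smul, inv_mul_cancel₀ hf]
  let j : R →ₐ[k] R ⊗[k] L := Algebra.TensorProduct.includeLeft
  have hj : ∀ (z : R ⊗[k] L) (x : R), r (z * j x) = x * r z := fun z x => by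
    rw [mul_comm z, show j x * z = x • z from (Algebra.smul_def x z).symm, map_smul, smul_eq_mul]
  let ρ : (R ⊗[k] L) ⊗[k] A →ₗ[R] R ⊗[k] A := TensorProduct.AlgebraTensorModule.map r LinearMap.id
  have hρ : ∀ (z : R ⊗[k] L) (x : R ⊗[k] A), ρ (z • incl A j x) = r z • x := fun z x => by
    induction x using TensorProduct.induction_on with
    | zero => simp
    | tmul s a =>
      rw [incl_tmul, TensorProduct.smul_tmul', smul_eq_mul, TensorProduct.smul_tmul', smul_eq_mul]
      show r (z * j s) ⊗ₜ[k] a = _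
      rw [hj, mul_comm]
    | add x y hx hy => rw [map_add, smul_add, map_add, hx, hy, smul_add]
  intro x hx
  have key : ∀ y ∈ bcT j Q, ∀ z : R ⊗[k] L, ρ (z • y) ∈ Q := by
    intro y hy
    induction hy using Submodule.span_induction with
    | mem y hy =>
      obtain ⟨w, hw, rfl⟩ := hy
      exact fun z => by rw [hρ]; exact Q.smul_mem _ hw
    | zero => exact fun z => by rw [smul_zero, map_zero]; exact Q.zero_mem
    | add a b _ _ ha hb => exact fun z => by rw [smul_add, map_add]; exact Q.add_mem (ha z) (hb z)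
    | smul c a _ ha => exact fun z => by rw [smul_smul]; exact ha _
  have := key _ (h (Submodule.subset_span ⟨x, hx, rfl⟩)) 1
  rwa [hρ, Algebra.TensorProduct.one_def, hr, one_smul] at this

variable [Algebra.IsCentral k A] [IsSimpleRing A]

theorem exists_split (hn : 0 < n) (hA : Module.finrank k A = n * n) :
    ∃ (K : Type u) (_ : Field K) (_ : Algebra k K),
      Nonempty (K ⊗[k] A ≃ₐ[K] Matrix (Fin n) (Fin n) K) := by
  have : FiniteDimensional k A := Module.finite_of_finrank_pos (by rw [hA]; positivity)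
  obtain ⟨K, _, _, _, _, m, _, ⟨e⟩⟩ := Groth.Agent.S0201.result k A
  have h := e.toLinearEquiv.finrank_eq
  rw [Module.finrank_baseChange, hA, Module.finrank_matrix, Module.finrank_self, Fintype.card_fin, mul_one] at h
  obtain rfl : n = m := Nat.mul_self_inj.mp h
  exact ⟨K, inferInstance, inferInstance, ⟨e⟩⟩

/-- Every natural automorphism of the functor of left ideals is right multiplication by a unit of `A`. -/
theorem exists_unit (hn : 0 < n) (hA : Module.finrank k A = n * n)
    (η θ : IdealMap k A (n * n - n))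
    (hθ : ∀ (R : Type u) [CommRing R] [Algebra k R] (N : BrSev.SBSet k A (n * n - n) R),
      θ.app R (η.app R N) = N) :
    ∃ a : Aˣ, ∀ (R : Type u) [CommRing R] [Algebra k R] (N : BrSev.SBSet k A (n * n - n) R),
      (η.app R N).1.toSubmodule = mulR N.1.toSubmodule ((1 : R) ⊗ₜ[k] (a : A)) := by
  obtain ⟨K, _, _, ⟨ψ⟩⟩ := exists_split (k := k) (A := A) hn hA
  obtain ⟨b, hb⟩ := exists_unit_over ψ hn η θ hθ
  have hfin : FiniteDimensional k A := Module.finite_of_finrank_pos (by rw [hA]; positivity)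
  let β := Module.finBasis k A
  let β' := Algebra.TensorProduct.basis K β
  have hne : Nontrivial (Matrix (Fin n) (Fin n) K) := by
    haveI : Nonempty (Fin n) := ⟨⟨0, hn⟩⟩
    infer_instance
  haveI : Nontrivial (K ⊗[k] A) := ψ.toEquiv.nontrivial
  obtain ⟨l, hl⟩ : ∃ l, β'.repr (b : K ⊗[k] A) l ≠ 0 := by
    by_contra h
    push Not at h
    exact b.ne_zero (β'.repr.map_eq_zero_iff.mp (Finsupp.ext h))
  set c := β'.repr (b : K ⊗[k] A) l with hc
  let b' : K ⊗[k] A := c⁻¹ • (b : K ⊗[k] A)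
  have hb'u : IsUnit b' := ⟨(Units.map (algebraMap K (K ⊗[k] A)).toMonoidHom (Units.mk0 c⁻¹ (inv_ne_zero hl))) * b, by
    rw [Units.val_mul]; exact (Algebra.smul_def c⁻¹ (b : K ⊗[k] A)).symm⟩
  have hb' : ∀ (R : Type u) [CommRing R] [Algebra k R] (φ : K →ₐ[k] R)
      (N : BrSev.SBSet k A (n * n - n) R),
      (η.app R N).1.toSubmodule = mulR N.1.toSubmodule (incl A φ b') := fun R _ _ φ N => by
    rw [hb R φ N, incl_smul, mulR_smul _ ((Ne.isUnit (inv_ne_zero hl)).map φ)]
  -- descend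
  let i₁ : K →ₐ[k] K ⊗[k] K := Algebra.TensorProduct.includeLeft
  let i₂ : K →ₐ[k] K ⊗[k] K := Algebra.TensorProduct.includeRight
  obtain ⟨s, hs⟩ := eq_smul_of_mulR_eq ψ hn i₁ (u := (hb'u.map (incl A i₁)).unit)
    (w := (hb'u.map (incl A i₂)).unit) fun N => (hb' _ i₁ N).symm.trans (hb' _ i₂ N)
  rw [IsUnit.unit_spec, IsUnit.unit_spec] at hs
  let T := Algebra.TensorProduct.basis (K ⊗[k] K) β
  have hrepr : ∀ (φ : K →ₐ[k] K ⊗[k] K) (x : K ⊗[k] A) (m),
      T.repr (incl A φ x) m = φ (β'.repr x m) := by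
    intro φ x m
    induction x using TensorProduct.induction_on with
    | zero => simp
    | tmul r a => simp [T, β', incl_tmul, Algebra.smul_def, mul_comm]
    | add x y hx hy => simp [hx, hy]
  have hco : ∀ m, i₁ (β'.repr b' m) = s * i₂ (β'.repr b' m) := fun m => by
    rw [← hrepr, hs, map_smul, Finsupp.smul_apply, hrepr, smul_eq_mul]
  have hl1 : β'.repr b' l = 1 := by
    simp only [b', map_smul, Finsupp.smul_apply, smul_eq_mul]
    exact inv_mul_cancel₀ hl
  obtain rfl : s = 1 := by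
    have := hco l
    rw [hl1, map_one, map_one, mul_one] at this
    exact this.symm
  obtain ⟨f, hf⟩ := Module.Projective.exists_dual_ne_zero k (one_ne_zero : (1 : K) ≠ 0)
  have hk : ∀ x : K, i₁ x = i₂ x → ∃ r : k, algebraMap k K r = x := fun x hx => by
    refine ⟨(f 1)⁻¹ * f x, ?_⟩
    have := congrArg ((TensorProduct.lid k K).toLinearMap ∘ₗ f.rTensor K) hx
    simp [i₁, i₂] at this
    rw [Algebra.algebraMap_eq_smul_one, mul_smul, this, smul_smul, inv_mul_cancel₀ hf, one_smul]
  choose r hr using fun m => hk _ ((hco m).trans (one_mul _))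
  let a : A := ∑ m, r m • β m
  have ha : (1 : K) ⊗ₜ[k] a = b' := by
    apply β'.repr.injective
    ext m
    simp only [β', a, Algebra.TensorProduct.basis_repr_tmul, one_smul, Finsupp.mapRange_apply]
    rw [β.repr_sum_self]
    exact hr m
  have hau : IsUnit a := by
    have hinj : Function.Injective (LinearMap.mulLeft k a) := by
      rw [← LinearMap.ker_eq_bot, LinearMap.ker_eq_bot']
      intro x hx
      have h1 : b' * ((1 : K) ⊗ₜ[k] x) = 0 := by
        rw [← ha, Algebra.TensorProduct.tmul_mul_tmul, one_mul, show a * x = 0 from hx, TensorProduct.tmul_zero]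
      rw [hb'u.mul_right_eq_zero] at h1
      exact Algebra.TensorProduct.includeRight_injective (A := K) (FaithfulSMul.algebraMap_injective k K)
        (h1.trans (TensorProduct.tmul_zero A (1 : K)).symm)
    obtain ⟨x, hx⟩ := (LinearMap.injective_iff_surjective.mp hinj) 1
    have hx' : a * x = 1 := hx
    exact ⟨⟨a, x, hx', hinj (show a * (x * a) = a * 1 by rw [← mul_assoc, hx', one_mul, mul_one])⟩, rfl⟩
  refine ⟨hau.unit, fun R _ _ N => ?_⟩
  rw [IsUnit.unit_spec]
  let R' := R ⊗[k] K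
  let j : R →ₐ[k] R' := Algebra.TensorProduct.includeLeft
  have h := hb' R' Algebra.TensorProduct.includeRight (bcSet j N)
  rw [η.nat, bcSet_toSubmodule, bcSet_toSubmodule, ← ha, one_tmul_incl, ← one_tmul_incl j a,
    ← bcT_mulR] at h
  exact le_antisymm (le_of_bcT_le (L := K) h.le) (le_of_bcT_le (L := K) h.ge)

end Groth.Agent.Lib.SBAut
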