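import Groth.Agent.Lib.GrassRep.Plucker
import Mathlib.RingTheory.Noetherian.Basic
import Mathlib.RingTheory.Polynomial.Basic
import Mathlib.AlgebraicGeometry.Morphisms.IsIso

/-!
# Plücker maps that are isomorphisms: `G(n - 1, n) ≅ P^(n-1)`
-/

universe u

open CategoryTheory Limits AlgebraicGeometry TensorProduct Module

namespace Groth.Agent.Lib.GrassRep

set_option linter.style.haveILetI false

open Groth.Agent.Lib.ProjSpace.Basic Groth.Agent.Lib.ProjSpace.Charts

theorem bijective_of_surjective_endo {T : Type*} [CommRing T] [IsNoetherianRing T] (f : T →+* T)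
    (hf : Function.Surjective f) : Function.Bijective f := by
  refine ⟨(injective_iff_map_eq_zero f).mpr fun x hx => ?_, hf⟩
  let I : ℕ → Ideal T := fun i => RingHom.ker (f ^ i)
  have hI : Monotone I := monotone_nat_of_le_succ fun i z hz => by
    simp only [I, RingHom.mem_ker] at hz ⊢
    rw [pow_succ']
    show f ((f ^ i) z) = 0
    rw [hz, map_zero]
  obtain ⟨m, hm⟩ := monotone_stabilizes_iff_noetherian.mpr inferInstance ⟨I, hI⟩
  have hsurj : Function.Surjective (f ^ m : T →+* T) := by
    rw [RingHom.coe_pow]; exact hf.iterate m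
  obtain ⟨z, rfl⟩ := hsurj x
  have hz : z ∈ I (m + 1) := by
    simp only [I, RingHom.mem_ker, pow_succ']
    exact hx
  rwa [← show I m = I (m + 1) from hm (m + 1) (Nat.le_succ m)] at hz

variable {R : Type u} [CommRing R] {n q N : ℕ} (ε : Fin (N + 1) ≃ Sel n q)

theorem bijective_evalU [IsNoetherianRing R] (hN : q * (n - q) = N) (l : Fin (N + 1)) :
    Function.Bijective (evalU (R := R) ε l) := by
  classical
  let ι := {j : Fin (N + 1) // j ≠ l}
  let σ := emb (ε l)
  have hfrom : Function.Bijective (fromPoly R l) :=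
    ⟨Function.LeftInverse.injective (g := toPoly R l) fun p => RingHom.congr_fun (toPoly_comp_fromPoly l) p,
      fromPoly_surjective l⟩
  have hcard : Nat.card ι = Nat.card (Free σ) := by
    rw [card_free, hN, Nat.card_eq_fintype_card, Fintype.card_subtype_compl, Fintype.card_fin,
      Fintype.card_subtype_eq, Nat.add_sub_cancel]
  let e : Free σ ≃ ι := Classical.choice (Finite.card_eq.mp hcard.symm)
  let r := (MvPolynomial.renameEquiv R e).toRingEquiv
  let c := (chartRingEquiv (R := R) σ).symm.toRingEquiv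
  let g : MvPolynomial ι R →+* MvPolynomial ι R :=
    r.toRingHom.comp (c.toRingHom.comp ((evalU (R := R) ε l).comp (fromPoly R l)))
  have hg := bijective_of_surjective_endo g
    (r.surjective.comp (c.surjective.comp ((surjective_evalU ε l).comp hfrom.2)))
  refine ⟨fun a b h => ?_, surjective_evalU ε l⟩
  obtain ⟨a', rfl⟩ := hfrom.2 a
  obtain ⟨b', rfl⟩ := hfrom.2 b
  exact congrArg _ (hg.1 (congrArg (fun z => r (c z)) h))

theorem isIso_pluckerMap (hb : ∀ l, Function.Bijective (evalU (R := R) ε l))
    (r : carrier R (Fin n → R) q ⟶ CohB1.ProjSpace N R)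
    (hr : ∀ l, chart (Ul ε R l) ≫ r = mapU ε l) : IsIso r := by
  let 𝒱 : (CohB1.ProjSpace N R).OpenCover :=
    Scheme.Cover.mkOfCovers (P := @IsOpenImmersion) (Fin (N + 1)) _ (fun l => awayχ R l) (fun y => by
      obtain ⟨i, hi⟩ := exists_mem_opensRange_chartι N R y
      rw [opensRange_chartι, ← opensRange_awayχ] at hi
      exact ⟨i, hi⟩) (fun _ => inferInstance)
  refine IsZariskiLocalAtTarget.of_openCover (P := MorphismProperty.isomorphisms Scheme) 𝒱 fun (l : Fin (N + 1)) => ?_
  show IsIso (pullback.snd r (awayχ R l))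
  haveI : IsIso (CommRingCat.ofHom (evalU (R := R) ε l)) :=
    (ConcreteCategory.isIso_iff_bijective _).mpr (hb l)
  haveI : IsOpenImmersion (pullback.fst r (awayχ R l)) := inferInstance
  have hrange : Set.range (pullback.fst r (awayχ R l)) ⊆ Set.range (chart (R := R) (Ul ε R l)) := by
    rintro _ ⟨w, rfl⟩
    obtain ⟨m, z, hz⟩ := iSup_chart_tup ε (pullback.fst r (awayχ R l) w)
    have hw : r (pullback.fst r (awayχ R l) w) ∈ Proj.basicOpen (CohB1.polyGrading N R) (MvPolynomial.X l) := by
      rw [← opensRange_awayχ]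
      exact ⟨pullback.snd r (awayχ R l) w,
        (congrArg (fun f => (f : _ ⟶ CohB1.ProjSpace N R) w) pullback.condition).symm⟩
    rw [← hz] at hw ⊢
    let p : PrimeSpectrum (Sr R (Ul ε R m)) := z
    have hw' : mapU ε m z ∈ Proj.basicOpen (CohB1.polyGrading N R) (MvPolynomial.X l) := by
      rw [← hr m]
      exact hw
    have hw'' := (ProjCoord.mem_preimage_awayχ (Z := R) m l (PrimeSpectrum.comap (evalU ε m) p)).mp hw'
    rw [PrimeSpectrum.comap_asIdeal, Ideal.mem_comap, evalU,
      ProjCoord.evalChart_coord_of_eq_one _ _ _ _ _ (plU_self ε m)] at hw''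
    let K := p.asIdeal.ResidueField
    let f : Sr R (Ul ε R m) →ₐ[R] K := IsScalarTower.toAlgHom R _ _
    let P := mapPts f (univ R (Ul ε R m))
    have hgen : Gen P.1 (tup ε R l) := by
      show Gen (Grassmannian.map f (univ R (Ul ε R m)).1) (tup ε R l)
      rw [gen_iff_isUnit_det ((gen_univ_tup ε m).map f), det_mat_map (gen_univ_tup ε m),
        isUnit_iff_ne_zero]
      exact fun h => hw'' (Ideal.algebraMap_residueField_eq_zero.mp h)
    have h := clsf_chart_eq (Pts.single hgen) P rfl
    rw [show clsf P = f from hom_ext (map_clsf _)] at h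
    refine ⟨Sp (clsf (Pts.single hgen)) (⊥ : PrimeSpectrum K), ?_⟩
    show (Sp (clsf (Pts.single hgen)) ≫ chart _) (⊥ : PrimeSpectrum K) = _
    rw [h]
    show chart _ (Sp f (⊥ : PrimeSpectrum K)) = chart _ z
    refine congrArg _ (PrimeSpectrum.ext ?_)
    exact Ideal.ker_algebraMap_residueField p.asIdeal
  let u := IsOpenImmersion.lift (chart (R := R) (Ul ε R l)) (pullback.fst r (awayχ R l)) hrange
  have hu : u ≫ chart _ = pullback.fst r (awayχ R l) := IsOpenImmersion.lift_fac _ _ _
  let t : Spec (CommRingCat.of (Sr R (Ul ε R l))) ⟶ pullback r (awayχ R l) :=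
    pullback.lift (chart _) (Spec.map (CommRingCat.ofHom (evalU ε l))) (hr l)
  haveI : IsIso u := by
    refine ⟨t, ?_, ?_⟩
    · rw [← cancel_mono (pullback.fst r (awayχ R l)), Category.assoc, Category.id_comp, show t ≫ pullback.fst r (awayχ R l) = chart (Ul ε R l) from pullback.lift_fst _ _ _, hu]
    · rw [← cancel_mono (chart (R := R) (Ul ε R l)), Category.assoc, Category.id_comp, hu,
        show t ≫ pullback.fst r (awayχ R l) = chart (Ul ε R l) from pullback.lift_fst _ _ _]
  have hq : pullback.snd r (awayχ R l) = u ≫ Spec.map (CommRingCat.ofHom (evalU ε l)) := by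
    rw [← cancel_mono (awayχ R l), ← pullback.condition, ← hu, Category.assoc, hr, Category.assoc]
    rfl
  rw [hq]
  infer_instance

omit ε in
/-- `P^(n-1)` is the Grassmannian of rank `n - 1` quotients of the free module of rank `n`. -/
theorem exists_grass_iso_projSpace (R : Type u) [CommRing R] [IsNoetherianRing R] (m : ℕ) :
    ∃ c : carrier R (Fin (m + 1) → R) m ≅ CohB1.ProjSpace m R,
      c.hom ≫ CohB1.ProjSpace.toSpec m R = str R (Fin (m + 1) → R) m := by
  classical
  have hcard : Fintype.card (Sel (m + 1) m) = m + 1 := by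
    rw [Fintype.card_finset_len, Fintype.card_fin, Nat.choose_succ_self_right]
  let ε : Fin (m + 1) ≃ Sel (m + 1) m := (Fintype.equivFinOfCardEq hcard).symm
  obtain ⟨r, hr, hrs⟩ := exists_pluckerMap (R := R) ε
  haveI := isIso_pluckerMap ε (bijective_evalU ε (by rw [Nat.add_sub_cancel_left, mul_one])) r hr
  exact ⟨asIso r, hrs⟩

end Groth.Agent.Lib.GrassRep
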