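import Groth.Prelude.Def_BrSev2
import Mathlib.RingTheory.TensorProduct.Maps
import Mathlib.RingTheory.TensorProduct.Free

/-!
# The functor of left ideals: base change and right multiplication
-/

universe u

set_option autoImplicit false
set_option linter.style.haveILetI false

open scoped TensorProduct

namespace Groth.Agent.Lib.SBAut

variable {k : Type u} [Field k] {A : Type u} [Ring A] [Algebra k A]
  {R S : Type u} [CommRing R] [Algebra k R] [CommRing S] [Algebra k S]

variable (A) in
/-- `R ⊗ A → S ⊗ A`. -/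
noncomputable def incl (φ : R →ₐ[k] S) : R ⊗[k] A →ₐ[k] S ⊗[k] A :=
  Algebra.TensorProduct.map φ (AlgHom.id k A)

@[simp] theorem incl_tmul (φ : R →ₐ[k] S) (r : R) (a : A) : incl A φ (r ⊗ₜ a) = φ r ⊗ₜ a := rfl

theorem incl_smul (φ : R →ₐ[k] S) (r : R) (x : R ⊗[k] A) : incl A φ (r • x) = φ r • incl A φ x := by
  induction x using TensorProduct.induction_on with
  | zero => rw [smul_zero, map_zero, smul_zero]
  | tmul s a => simp [TensorProduct.smul_tmul']
  | add x y hx hy => rw [smul_add, map_add, hx, hy, map_add, smul_add]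

theorem incl_comp {T : Type u} [CommRing T] [Algebra k T] (φ : R →ₐ[k] S) (χ : S →ₐ[k] T)
    (x : R ⊗[k] A) : incl A χ (incl A φ x) = incl A (χ.comp φ) x := by
  induction x using TensorProduct.induction_on with
  | zero => simp only [map_zero]
  | tmul s a => rfl
  | add x y hx hy => simp only [map_add, hx, hy]

/-- Base change of a submodule of `R ⊗ A`. -/
def bcT (φ : R →ₐ[k] S) (N : Submodule R (R ⊗[k] A)) : Submodule S (S ⊗[k] A) :=
  Submodule.span S (incl A φ '' (N : Set (R ⊗[k] A)))

theorem map_toSubmodule_eq {c : ℕ} (φ : R →ₐ[k] S) (N : Module.Grassmannian R (R ⊗[k] A) c) :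
    (Module.Grassmannian.map φ N).toSubmodule = bcT φ N.toSubmodule := by
  letI := φ.toAlgebra
  letI : IsScalarTower k R S := IsScalarTower.of_algebraMap_eq' φ.comp_algebraMap.symm
  rw [Module.Grassmannian.map_toSubmodule]
  show LinearMap.ker (N.mkQ.baseChange S ∘ₗ
    (TensorProduct.AlgebraTensorModule.cancelBaseChange k R S S A).symm.toLinearMap) = _
  have h : LinearMap.ker (N.mkQ.baseChange S) = N.toSubmodule.baseChange S := by
    have : Function.Exact (N.subtype.baseChange S) (N.mkQ.baseChange S) :=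
      lTensor_exact S (LinearMap.exact_subtype_mkQ N.toSubmodule) N.mkQ_surjective
    exact LinearMap.exact_iff.mp this
  rw [LinearMap.ker_comp, h, Submodule.comap_equiv_eq_map_symm, LinearEquiv.symm_symm,
    Submodule.baseChange_eq_span, Submodule.map_span, bcT, Submodule.map_coe, ← Set.image_comp]
  congr 1
  refine Set.image_congr' fun x => ?_
  show TensorProduct.AlgebraTensorModule.cancelBaseChange k R S S A (1 ⊗ₜ x) = incl A φ x
  induction x using TensorProduct.induction_on with
  | zero => simp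
  | tmul r a => simp [Algebra.smul_def, RingHom.algebraMap_toAlgebra]
  | add x y hx hy => rw [TensorProduct.tmul_add, map_add, hx, hy, map_add]

/-- Stability under left multiplication. -/
def LeftStable (N : Submodule R (R ⊗[k] A)) : Prop :=
  ∀ a x, x ∈ N → a * x ∈ N

theorem leftStable_bcT (φ : R →ₐ[k] S) {N : Submodule R (R ⊗[k] A)} (hN : LeftStable N) :
    LeftStable (bcT φ N) := by
  intro z x hx
  induction hx using Submodule.span_induction generalizing z with
  | mem y hy =>
    obtain ⟨w, hw, rfl⟩ := hy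
    induction z using TensorProduct.induction_on with
    | zero => rw [zero_mul]; exact Submodule.zero_mem _
    | tmul s a =>
      have : (s ⊗ₜ[k] a) * incl A φ w = s • incl A φ ((1 ⊗ₜ[k] a) * w) := by
        rw [map_mul, incl_tmul, map_one, ← smul_mul_assoc, TensorProduct.smul_tmul', smul_eq_mul, mul_one]
      rw [this]
      exact Submodule.smul_mem _ _ (Submodule.subset_span ⟨_, hN _ _ hw, rfl⟩)
    | add p q hp hq => rw [add_mul]; exact Submodule.add_mem _ hp hq
  | zero => rw [mul_zero]; exact Submodule.zero_mem _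
  | add p q _ _ hp hq => rw [mul_add]; exact Submodule.add_mem _ (hp z) (hq z)
  | smul c p _ hp => rw [mul_smul_comm]; exact Submodule.smul_mem _ _ (hp z)

/-- Right multiplication of a submodule. -/
noncomputable def mulR (N : Submodule R (R ⊗[k] A)) (z : R ⊗[k] A) : Submodule R (R ⊗[k] A) :=
  N.map (LinearMap.mulRight R z)

theorem mulR_mulR (N : Submodule R (R ⊗[k] A)) (y z : R ⊗[k] A) :
    mulR (mulR N y) z = mulR N (y * z) := by
  rw [mulR, mulR, mulR, ← Submodule.map_comp, ← LinearMap.mulRight_mul]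

theorem mulR_one (N : Submodule R (R ⊗[k] A)) : mulR N 1 = N := by
  rw [mulR, LinearMap.mulRight_one, Submodule.map_id]

theorem mulR_smul (N : Submodule R (R ⊗[k] A)) {r : R} (hr : IsUnit r) (z : R ⊗[k] A) :
    mulR N (r • z) = mulR N z := by
  obtain ⟨r, rfl⟩ := hr
  ext x
  simp only [mulR, Submodule.mem_map, LinearMap.mulRight_apply]
  constructor
  · rintro ⟨w, hw, rfl⟩
    exact ⟨(r : R) • w, N.smul_mem _ hw, by rw [smul_mul_assoc, mul_smul_comm]⟩
  · rintro ⟨w, hw, rfl⟩
    refine ⟨((r⁻¹ : Rˣ) : R) • w, N.smul_mem _ hw, ?_⟩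
    rw [smul_mul_assoc, mul_smul_comm, smul_smul, Units.inv_mul, one_smul]

theorem bcT_mulR (φ : R →ₐ[k] S) (N : Submodule R (R ⊗[k] A)) (z : R ⊗[k] A) :
    bcT φ (mulR N z) = mulR (bcT φ N) (incl A φ z) := by
  rw [bcT, bcT, mulR, mulR, Submodule.map_span, Submodule.map_coe, ← Set.image_comp, ← Set.image_comp]
  congr 1
  exact Set.image_congr fun x _ => map_mul (incl A φ) x z

variable {c : ℕ}

theorem sbSet_ext {N N' : BrSev.SBSet k A c R} (h : N.1.toSubmodule = N'.1.toSubmodule) : N = N' :=
  Subtype.ext (Module.Grassmannian.ext h)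

/-- Base change of points of the functor of left ideals. -/
noncomputable def bcSet (φ : R →ₐ[k] S) (N : BrSev.SBSet k A c R) : BrSev.SBSet k A c S :=
  ⟨Module.Grassmannian.map φ N.1, by
    rw [map_toSubmodule_eq]; exact leftStable_bcT φ N.2⟩

theorem bcSet_toSubmodule (φ : R →ₐ[k] S) (N : BrSev.SBSet k A c R) :
    (bcSet φ N).1.toSubmodule = bcT φ N.1.toSubmodule :=
  map_toSubmodule_eq φ N.1

/-- Right multiplication by a unit. -/
noncomputable def mulSet (u : (R ⊗[k] A)ˣ) (N : BrSev.SBSet k A c R) : BrSev.SBSet k A c R :=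
  let e : (R ⊗[k] A) ≃ₗ[R] (R ⊗[k] A) :=
    LinearEquiv.ofLinearMap (LinearMap.mulRight R (u : R ⊗[k] A)) (LinearMap.mulRight R ↑u⁻¹)
      (by ext x; simp [mul_assoc]) (by ext x; simp [mul_assoc])
  let q : ((R ⊗[k] A) ⧸ N.1.toSubmodule) ≃ₗ[R] (R ⊗[k] A) ⧸ mulR N.1.toSubmodule u :=
    Submodule.Quotient.equiv _ _ e rfl
  ⟨{ toSubmodule := mulR N.1.toSubmodule u
     finite_quotient := Module.Finite.equiv q
     projective_quotient := Module.Projective.of_equiv q
     rankAtStalk_eq := fun p => by
       rw [Module.rankAtStalk_eq_of_equiv q.symm]; exact N.1.rankAtStalk_eq p },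
    by
      rintro a _ ⟨w, hw, rfl⟩
      exact ⟨a * w, N.2 a w hw, by simp [mul_assoc]⟩⟩

@[simp] theorem mulSet_toSubmodule (u : (R ⊗[k] A)ˣ) (N : BrSev.SBSet k A c R) :
    (mulSet u N).1.toSubmodule = mulR N.1.toSubmodule u := rfl

/-- A natural self map of the functor of left ideals. -/
structure IdealMap (k : Type u) [Field k] (A : Type u) [Ring A] [Algebra k A] (c : ℕ) where
  app : ∀ (R : Type u) [CommRing R] [Algebra k R], BrSev.SBSet k A c R → BrSev.SBSet k A c R
  nat : ∀ (R S : Type u) [CommRing R] [Algebra k R] [CommRing S] [Algebra k S] (φ : R →ₐ[k] S)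
    (N : BrSev.SBSet k A c R), app S (bcSet φ N) = bcSet φ (app R N)

end Groth.Agent.Lib.SBAut
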