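import Mathlib.RingTheory.Spectrum.Prime.FreeLocus
import Mathlib.RingTheory.TensorProduct.Finite
import Mathlib.RingTheory.TensorProduct.Pi
import Mathlib.RingTheory.Localization.AtPrime.Basic
import Mathlib.LinearAlgebra.FreeModule.Finite.Basic
import Mathlib.LinearAlgebra.Matrix.ToLin
import Mathlib.RingTheory.LocalRing.Module

/-!
# Lines in `R ^ n`: submodules with projective quotient of rank `n - 1`
-/

universe u

set_option linter.style.haveILetI false

open scoped TensorProduct

namespace Groth.Agent.Lib.SBAut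

variable {R S : Type u} [CommRing R] [CommRing S] {n : ℕ}

/-- A line in `R ^ n`. -/
structure IsLine (L : Submodule R (Fin n → R)) : Prop where
  projective : Module.Projective R ((Fin n → R) ⧸ L)
  rank : ∀ p, Module.rankAtStalk (R := R) ((Fin n → R) ⧸ L) p = n - 1

/-- Base change of a submodule of `R ^ n`. -/
def bc (φ : R →+* S) (L : Submodule R (Fin n → R)) : Submodule S (Fin n → S) :=
  Submodule.span S ((fun w => φ ∘ w) '' (L : Set (Fin n → R)))

theorem comp_mem_bc (φ : R →+* S) {L : Submodule R (Fin n → R)} {w : Fin n → R} (hw : w ∈ L) :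
    φ ∘ w ∈ bc φ L :=
  Submodule.subset_span ⟨w, hw, rfl⟩

theorem comp_smul_eq (φ : R →+* S) (r : R) (w : Fin n → R) : φ ∘ (r • w) = φ r • (φ ∘ w) := by
  funext i; simp

theorem bc_span_singleton (φ : R →+* S) (v : Fin n → R) :
    bc φ (Submodule.span R {v}) = Submodule.span S {φ ∘ v} := by
  apply le_antisymm
  · refine Submodule.span_le.mpr ?_
    rintro _ ⟨w, hw, rfl⟩
    obtain ⟨r, rfl⟩ := Submodule.mem_span_singleton.mp hw
    exact Submodule.mem_span_singleton.mpr ⟨φ r, (comp_smul_eq φ r v).symm⟩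
  · exact (Submodule.span_singleton_le_iff_mem _ _).mpr
      (comp_mem_bc φ (Submodule.mem_span_singleton_self v))

theorem isLine_of_isUnit (v : Fin n → R) (i : Fin n) (h : IsUnit (v i)) :
    IsLine (Submodule.span R {v}) := by
  obtain ⟨a, ha⟩ := h.exists_left_inv
  let q : (Fin n → R) →ₗ[R] ({j : Fin n // j ≠ i} → R) :=
    { toFun := fun w j => w j - a * w i * v j
      map_add' := fun x y => by funext j; simp only [Pi.add_apply]; ring
      map_smul' := fun c x => by funext j; simp only [Pi.smul_apply, smul_eq_mul, RingHom.id_apply]; ring }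
  have hq : Function.Surjective q := by
    classical
    intro w
    refine ⟨fun j => if h : j = i then 0 else w ⟨j, h⟩, ?_⟩
    funext j
    show (if h : (j : Fin n) = i then 0 else w ⟨j, h⟩) - a * (if h : i = i then 0 else w ⟨i, h⟩) * v j = w j
    rw [dif_neg j.2, dif_pos rfl]
    simp
  have hker : LinearMap.ker q = Submodule.span R {v} := by
    apply le_antisymm
    · intro w hw
      refine Submodule.mem_span_singleton.mpr ⟨a * w i, funext fun j => ?_⟩
      by_cases hj : j = i
      · subst hj
        simp only [Pi.smul_apply, smul_eq_mul]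
        rw [mul_right_comm, ha, one_mul]
      · have := congrFun (LinearMap.mem_ker.mp hw) ⟨j, hj⟩
        simp only [Pi.smul_apply, smul_eq_mul]
        exact (sub_eq_zero.mp this).symm
    · refine (Submodule.span_singleton_le_iff_mem _ _).mpr (LinearMap.mem_ker.mpr (funext fun j => ?_))
      show v j - a * v i * v j = 0
      rw [ha, one_mul, sub_self]
  let e : ((Fin n → R) ⧸ Submodule.span R {v}) ≃ₗ[R] ({j : Fin n // j ≠ i} → R) :=
    (Submodule.quotEquivOfEq _ _ hker.symm).trans (q.quotKerEquivOfSurjective hq)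
  refine ⟨Module.Projective.of_equiv e.symm, fun p => ?_⟩
  have : Nontrivial R := p.nontrivial
  rw [Module.rankAtStalk_eq_of_equiv e, Module.rankAtStalk_eq_finrank_of_free]
  simp [Fintype.card_subtype_compl]

theorem isLine_bc (φ : R →+* S) {L : Submodule R (Fin n → R)} (hL : IsLine L) : IsLine (bc φ L) := by
  letI := φ.toAlgebra
  haveI := hL.projective
  let e : S ⊗[R] (Fin n → R) ≃ₗ[S] (Fin n → S) := TensorProduct.piScalarRight R S S (Fin n)
  have he : ∀ w : Fin n → R, e (1 ⊗ₜ w) = φ ∘ w := fun w => by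
    funext j
    simp [e, Algebra.smul_def, RingHom.algebraMap_toAlgebra]
  have h1 : (L.baseChange S).map (e : S ⊗[R] (Fin n → R) →ₗ[S] (Fin n → S)) = bc φ L := by
    rw [Submodule.baseChange_eq_span, Submodule.map_span, bc]
    congr 1
    ext x
    simp [he]
  have h2 : LinearMap.ker (L.mkQ.baseChange S) = L.baseChange S := by
    have : Function.Exact (L.subtype.baseChange S) (L.mkQ.baseChange S) :=
      lTensor_exact S (LinearMap.exact_subtype_mkQ L) L.mkQ_surjective
    exact LinearMap.exact_iff.mp this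
  let q : ((Fin n → S) ⧸ bc φ L) ≃ₗ[S] S ⊗[R] ((Fin n → R) ⧸ L) :=
    (Submodule.Quotient.equiv _ _ e h1).symm ≪≫ₗ Submodule.quotEquivOfEq _ _ h2.symm ≪≫ₗ
      (L.mkQ.baseChange S).quotKerEquivOfSurjective (LinearMap.baseChange_surjective S L.mkQ_surjective)
  refine ⟨Module.Projective.of_equiv q.symm, fun p => ?_⟩
  rw [Module.rankAtStalk_eq_of_equiv q, Module.rankAtStalk_baseChange]
  exact hL.rank _

/-- Over a local ring a line is spanned by a vector with a unit coordinate. -/
theorem exists_eq_span [IsLocalRing R] (hn : 0 < n) {L : Submodule R (Fin n → R)} (hL : IsLine L) :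
    ∃ (v : Fin n → R) (i : Fin n), IsUnit (v i) ∧ L = Submodule.span R {v} := by
  haveI := hL.projective
  obtain ⟨s, hs⟩ := Module.projective_lifting_property L.mkQ LinearMap.id L.mkQ_surjective
  have hs' : ∀ x, L.mkQ (s x) = x := LinearMap.congr_fun hs
  let π : (Fin n → R) →ₗ[R] L := LinearMap.codRestrict L (LinearMap.id - s.comp L.mkQ) fun x => by
    refine (Submodule.Quotient.mk_eq_zero L).mp ?_
    change L.mkQ (x - s (L.mkQ x)) = 0
    rw [map_sub, hs', sub_self]
  have hπ : ∀ l : L, π l = l := fun l => Subtype.ext <| by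
    show (l : Fin n → R) - s (L.mkQ l) = l
    rw [show L.mkQ (l : Fin n → R) = 0 from (Submodule.Quotient.mk_eq_zero L).mpr l.2, map_zero, sub_zero]
  haveI : Module.Finite R L := Module.Finite.of_surjective π fun l => ⟨l, hπ l⟩
  haveI : Module.Projective R L := Module.Projective.of_split L.subtype π (LinearMap.ext hπ)
  haveI : Module.Free R L := Module.free_of_flat_of_isLocalRing
  let e : (Fin n → R) ≃ₗ[R] ((Fin n → R) ⧸ L) × L :=
    LinearEquiv.ofLinearMap (L.mkQ.prod π) (s.coprod L.subtype)
      (LinearMap.ext fun ⟨q, l⟩ => by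
        have h0 : L.mkQ (l : Fin n → R) = 0 := (Submodule.Quotient.mk_eq_zero L).mpr l.2
        refine Prod.ext ?_ (Subtype.ext ?_)
        · show L.mkQ (s q + (l : Fin n → R)) = q
          rw [map_add, hs', h0, add_zero]
        · show (s q + (l : Fin n → R)) - s (L.mkQ (s q + (l : Fin n → R))) = l
          rw [map_add L.mkQ, hs', h0, add_zero, add_sub_cancel_left])
      (LinearMap.ext fun x => by
        show s (L.mkQ x) + (x - s (L.mkQ x)) = x
        rw [add_sub_cancel])
  let p₀ : PrimeSpectrum R := ⟨IsLocalRing.maximalIdeal R, inferInstance⟩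
  have hr := congrFun (Module.rankAtStalk_eq_of_equiv e) p₀
  rw [Module.rankAtStalk_prod, Pi.add_apply, hL.rank, Module.rankAtStalk_eq_finrank_of_free,
    Module.rankAtStalk_eq_finrank_of_free, Pi.natCast_apply, Pi.natCast_apply,
    Module.finrank_fin_fun] at hr
  have h1 : Module.finrank R L = 1 := by simp at hr; omega
  let b := Module.basisUnique Unit h1
  let v : L := b ()
  have hspan : ∀ l : L, ∃ c : R, c • v = l := fun l => ⟨b.repr l (), by
    simpa [v] using b.sum_repr l⟩
  refine ⟨v, ?_⟩
  have hL' : L = Submodule.span R {(v : Fin n → R)} := le_antisymm (fun w hw => by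
      obtain ⟨c, hc⟩ := hspan ⟨w, hw⟩
      exact Submodule.mem_span_singleton.mpr ⟨c, congrArg Subtype.val hc⟩)
    ((Submodule.span_singleton_le_iff_mem _ _).mpr v.2)
  suffices h : ∃ i, IsUnit ((v : Fin n → R) i) by
    obtain ⟨i, hi⟩ := h; exact ⟨i, hi, hL'⟩
  by_contra hnu
  push_neg at hnu
  choose c hc using fun j => hspan (π (Pi.single j 1))
  have key : (∑ j, (v : Fin n → R) j * c j) • v = v := by
    conv_rhs => rw [← hπ v, pi_eq_sum_univ' (v : Fin n → R), map_sum]
    simp only [Finset.sum_smul, map_smul, ← hc, smul_smul]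
  have hm : ∑ j, (v : Fin n → R) j * c j ∈ IsLocalRing.maximalIdeal R :=
    Ideal.sum_mem _ fun j _ => Ideal.mul_mem_right _ _ (hnu j)
  have hu : IsUnit (1 - ∑ j, (v : Fin n → R) j * c j) :=
    IsLocalRing.isUnit_one_sub_self_of_mem_nonunits _ hm
  have h0 : (1 - ∑ j, (v : Fin n → R) j * c j) • v = 0 := by
    refine Subtype.ext (funext fun i => ?_)
    have := congrFun (congrArg Subtype.val key) i
    simp only [Submodule.coe_smul, Pi.smul_apply, smul_eq_mul, Submodule.coe_zero, Pi.zero_apply, sub_mul, one_mul] at this ⊢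
    rw [this, sub_self]
  exact b.ne_zero () (hu.smul_eq_zero.mp h0)

/-- A line is saturated. -/
theorem IsLine.mem_of_smul_mem {L : Submodule R (Fin n → R)} (hL : IsLine L) {c : R}
    (hc : IsRegular c) {v : Fin n → R} (h : c • v ∈ L) : v ∈ L := by
  haveI := hL.projective
  obtain ⟨s, hs⟩ := (Module.projective_def'.mp hL.projective)
  have hs' := LinearMap.congr_fun hs (L.mkQ v)
  have h0 : c • s (L.mkQ v) = 0 := by
    rw [← map_smul, ← map_smul, show L.mkQ (c • v) = 0 from (Submodule.Quotient.mk_eq_zero L).mpr h, map_zero]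
  have h1 : s (L.mkQ v) = 0 := by
    ext a
    have := DFunLike.congr_fun h0 a
    simp only [Finsupp.smul_apply, smul_eq_mul, Finsupp.coe_zero, Pi.zero_apply] at this
    exact hc.left (by simpa using this)
  rw [LinearMap.comp_apply, h1, map_zero] at hs'
  exact (Submodule.Quotient.mk_eq_zero L).mp hs'.symm

theorem eq_top_of_le_one (hn : n ≤ 1) {L : Submodule R (Fin n → R)} (hL : IsLine L) : L = ⊤ := by
  haveI := hL.projective
  have h : Module.rankAtStalk (R := R) ((Fin n → R) ⧸ L) = 0 := by
    ext p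
    rw [hL.rank p, Pi.zero_apply]
    omega
  rw [Module.rankAtStalk_eq_zero_iff_subsingleton] at h
  exact Submodule.Quotient.subsingleton_iff.mp h

/-- Clearing denominators. -/
theorem exists_smul_mem_of_mem_bc (φ : R →+* S) (M : Submonoid R)
    (hφ : ∀ x : S, ∃ s ∈ M, ∃ r, φ s * x = φ r) {L : Submodule R (Fin n → R)} {x : Fin n → S}
    (hx : x ∈ bc φ L) : ∃ s ∈ M, ∃ w ∈ L, φ s • x = φ ∘ w := by
  induction hx using Submodule.span_induction with
  | mem x hx => obtain ⟨w, hw, rfl⟩ := hx; exact ⟨1, M.one_mem, w, hw, by rw [map_one, one_smul]⟩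
  | zero => exact ⟨1, M.one_mem, 0, L.zero_mem, by funext i; simp⟩
  | add x y _ _ hx hy =>
    obtain ⟨s, hs, w, hw, hxw⟩ := hx
    obtain ⟨t, ht, z, hz, hyz⟩ := hy
    refine ⟨s * t, M.mul_mem hs ht, t • w + s • z, L.add_mem (L.smul_mem t hw) (L.smul_mem s hz), funext fun i => ?_⟩
    have e1 : φ s * x i = φ (w i) := congrFun hxw i
    have e2 : φ t * y i = φ (z i) := congrFun hyz i
    simp only [Pi.smul_apply, Pi.add_apply, Function.comp_apply, smul_eq_mul, map_add, map_mul]
    linear_combination φ t * e1 + φ s * e2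
  | smul c x _ hx =>
    obtain ⟨s, hs, w, hw, hxw⟩ := hx
    obtain ⟨t, ht, r, hr⟩ := hφ c
    refine ⟨s * t, M.mul_mem hs ht, r • w, L.smul_mem r hw, funext fun i => ?_⟩
    have e1 : φ s * x i = φ (w i) := congrFun hxw i
    simp only [Pi.smul_apply, Function.comp_apply, smul_eq_mul, map_mul]
    linear_combination φ t * c * e1 + φ (w i) * hr

theorem le_of_localization {L L' : Submodule R (Fin n → R)}
    (h : ∀ (P : Ideal R) [P.IsMaximal],
      bc (algebraMap R (Localization.AtPrime P)) L ≤ bc (algebraMap R (Localization.AtPrime P)) L') :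
    L ≤ L' := by
  intro w hw
  by_contra hwn
  let J : Ideal R := L'.comap (LinearMap.toSpanSingleton R _ w)
  have hJ : J ≠ ⊤ := fun e => hwn (by
    have : (1 : R) ∈ J := e ▸ Submodule.mem_top
    simpa [J] using this)
  obtain ⟨P, hP, hJP⟩ := Ideal.exists_le_maximal J hJ
  obtain ⟨s, hs, z, hz, hsz⟩ := exists_smul_mem_of_mem_bc (algebraMap R (Localization.AtPrime P)) P.primeCompl
    (fun x => by
      obtain ⟨⟨r, s⟩, hrs⟩ := IsLocalization.surj P.primeCompl x
      exact ⟨s, s.2, r, by rw [mul_comm]; exact hrs⟩)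
    (h P (comp_mem_bc _ hw))
  have hex : ∀ i, ∃ t : P.primeCompl, (t : R) * (s * w i) = t * z i := fun i =>
    (IsLocalization.eq_iff_exists P.primeCompl (Localization.AtPrime P)).mp (by
      rw [map_mul]; exact congrFun hsz i)
  choose t ht using hex
  have hT : (∏ i, (t i : R)) * s ∈ P.primeCompl :=
    P.primeCompl.mul_mem (Submonoid.prod_mem _ fun i _ => (t i).2) hs
  refine hT (hJP ?_)
  show ((∏ i, (t i : R)) * s) • w ∈ L'
  have : ((∏ i, (t i : R)) * s) • w = (∏ i, (t i : R)) • z := funext fun i => by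
    simp only [Pi.smul_apply, smul_eq_mul]
    rw [← Finset.prod_erase_mul _ _ (Finset.mem_univ i)]
    linear_combination (∏ j ∈ Finset.univ.erase i, (t j : R)) * ht i
  rw [this]
  exact L'.smul_mem _ hz

theorem eq_of_localization {L L' : Submodule R (Fin n → R)}
    (h : ∀ (P : Ideal R) [P.IsMaximal],
      bc (algebraMap R (Localization.AtPrime P)) L = bc (algebraMap R (Localization.AtPrime P)) L') :
    L = L' :=
  le_antisymm (le_of_localization fun P _ => (h P).le) (le_of_localization fun P _ => (h P).ge)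

end Groth.Agent.Lib.SBAut
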