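import Groth.Agent.Lib.SBAut.GrassProj
import Groth.Agent.Lib.SBAut.LineBasic

/-!
# Lines in `A ^ n` as points of the Grassmannian of `K ^ n`
-/

universe u

set_option autoImplicit false
set_option linter.style.haveILetI false

open scoped TensorProduct
open Groth.Agent.Lib.GrassRep

namespace Groth.Agent.Lib.SBAut

variable {K : Type u} [CommRing K] {n : ℕ}

theorem ker_baseChange_mkQ {A : Type u} [CommRing A] {P : Type u} [AddCommGroup P] [Module A P]
    (B : Type u) [CommRing B] [Algebra A B] (Q : Submodule A P) :
    LinearMap.ker (Q.mkQ.baseChange B) = Q.baseChange B :=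
  LinearMap.exact_iff.mp (lTensor_exact B (LinearMap.exact_subtype_mkQ Q) Q.mkQ_surjective)

theorem map_toSubmodule_eq_span {M : Type u} [AddCommGroup M] [Module K M] {q : ℕ}
    {A B : Type u} [CommRing A] [Algebra K A] [CommRing B] [Algebra K B]
    (φ : A →ₐ[K] B) (N : Gr K M q A) :
    (Module.Grassmannian.map φ N).toSubmodule = Submodule.span B (push M φ '' (N.toSubmodule : Set (A ⊗[K] M))) := by
  letI := φ.toAlgebra
  letI : IsScalarTower K A B := IsScalarTower.of_algebraMap_eq' φ.comp_algebraMap.symm
  rw [Module.Grassmannian.map_toSubmodule]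
  show LinearMap.ker (N.mkQ.baseChange B ∘ₗ
    (TensorProduct.AlgebraTensorModule.cancelBaseChange K A B B M).symm.toLinearMap) = _
  have h := ker_baseChange_mkQ B N.toSubmodule
  rw [LinearMap.ker_comp, h, Submodule.comap_equiv_eq_map_symm, LinearEquiv.symm_symm,
    Submodule.baseChange_eq_span, Submodule.map_span, Submodule.map_coe, ← Set.image_comp]
  congr 1
  refine Set.image_congr' fun x => ?_
  show TensorProduct.AlgebraTensorModule.cancelBaseChange K A B B M (1 ⊗ₜ x) = push M φ x
  induction x using TensorProduct.induction_on with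
  | zero => simp
  | tmul r a => simp [push, Algebra.smul_def, RingHom.algebraMap_toAlgebra]
  | add x y hx hy => rw [TensorProduct.tmul_add, map_add, hx, hy, map_add]

/-- Coordinates on `A ⊗ K ^ n`. -/
noncomputable def coords (n : ℕ) (K : Type u) [CommRing K] (A : Type u) [CommRing A] [Algebra K A] :
    A ⊗[K] (Fin n → K) ≃ₗ[A] (Fin n → A) :=
  TensorProduct.piScalarRight K A A (Fin n)

theorem coords_push {A B : Type u} [CommRing A] [Algebra K A] [CommRing B] [Algebra K B]
    (φ : A →ₐ[K] B) (x : A ⊗[K] (Fin n → K)) :
    coords n K B (push (Fin n → K) φ x) = φ.toRingHom ∘ coords n K A x := by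
  induction x using TensorProduct.induction_on with
  | zero => funext i; simp
  | tmul a v => funext i; simp [coords, push, Algebra.smul_def]
  | add x y hx hy => rw [map_add, map_add, hx, hy, map_add]; funext i; simp

/-- Points of `G(n - 1, K ^ n)` are lines. -/
noncomputable def lineEquiv (n : ℕ) (K : Type u) [CommRing K] (A : Type u) [CommRing A] [Algebra K A] :
    Gr K (Fin n → K) (n - 1) A ≃ {L : Submodule A (Fin n → A) // IsLine L} where
  toFun N :=
    ⟨N.toSubmodule.map (coords n K A).toLinearMap,
      haveI := N.finite_quotient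
      { projective := Module.Projective.of_equiv (Submodule.Quotient.equiv _ _ (coords n K A) rfl)
        rank := fun p => by
          rw [Module.rankAtStalk_eq_of_equiv (Submodule.Quotient.equiv _ _ (coords n K A) rfl).symm]
          exact N.rankAtStalk_eq p }⟩
  invFun L :=
    let q : ((A ⊗[K] (Fin n → K)) ⧸ L.1.map (coords n K A).symm.toLinearMap) ≃ₗ[A] (Fin n → A) ⧸ L.1 :=
      (Submodule.Quotient.equiv L.1 _ (coords n K A).symm rfl).symm
    { toSubmodule := L.1.map (coords n K A).symm.toLinearMap
      finite_quotient := Module.Finite.equiv q.symm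
      projective_quotient := haveI := L.2.projective; Module.Projective.of_equiv q.symm
      rankAtStalk_eq := fun p => by rw [Module.rankAtStalk_eq_of_equiv q]; exact L.2.rank p }
  left_inv N := Module.Grassmannian.ext (by
    show (N.toSubmodule.map _).map _ = _
    rw [← Submodule.map_comp, LinearEquiv.comp_coe, LinearEquiv.self_trans_symm]
    exact Submodule.map_id _)
  right_inv L := Subtype.ext (by
    show (L.1.map _).map _ = _
    rw [← Submodule.map_comp, LinearEquiv.comp_coe, LinearEquiv.symm_trans_self]
    exact Submodule.map_id _)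

theorem lineEquiv_map {A B : Type u} [CommRing A] [Algebra K A] [CommRing B] [Algebra K B]
    (φ : A →ₐ[K] B) (N : Gr K (Fin n → K) (n - 1) A) :
    (lineEquiv n K B (Module.Grassmannian.map φ N)).1 = bc φ.toRingHom (lineEquiv n K A N).1 := by
  show (Module.Grassmannian.map φ N).toSubmodule.map _ = _
  rw [map_toSubmodule_eq_span, Submodule.map_span, ← Set.image_comp, bc]
  congr 1
  show _ = (fun w => φ.toRingHom ∘ w) '' ((N.toSubmodule.map (coords n K A).toLinearMap : Submodule A (Fin n → A)) : Set (Fin n → A))
  rw [Submodule.map_coe, ← Set.image_comp]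
  exact Set.image_congr' fun x => coords_push φ x

end Groth.Agent.Lib.SBAut
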