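import Groth.Agent.Lib.SBAut.LineBasic
import Mathlib.RingTheory.MvPolynomial.Homogeneous
import Mathlib.Algebra.MvPolynomial.Division
import Mathlib.Algebra.MvPolynomial.Nilpotent
import Mathlib.Algebra.MvPolynomial.NoZeroDivisors
import Mathlib.RingTheory.Localization.Away.Basic
import Mathlib.RingTheory.Localization.FractionRing
import Mathlib.RingTheory.Localization.NumDen
import Mathlib.RingTheory.Polynomial.UniqueFactorization
import Mathlib.Algebra.Polynomial.Basic
import Mathlib.Algebra.Polynomial.Coeff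

/-!
# Natural self maps of the functor of lines: polynomial representatives
-/

universe u

set_option linter.style.haveILetI false

open MvPolynomial

namespace Groth.Agent.Lib.SBAut

variable {K : Type u} [Field K] {n : ℕ}

/-- A natural self map of the functor of lines on `K`-algebras. -/
structure LineMap (K : Type u) [Field K] (n : ℕ) where
  app : ∀ (R : Type u) [CommRing R] [Algebra K R], Submodule R (Fin n → R) → Submodule R (Fin n → R)
  isLine : ∀ (R : Type u) [CommRing R] [Algebra K R] (L : Submodule R (Fin n → R)),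
    IsLine L → IsLine (app R L)
  nat : ∀ (R S : Type u) [CommRing R] [Algebra K R] [CommRing S] [Algebra K S] (φ : R →ₐ[K] S)
    (L : Submodule R (Fin n → R)), IsLine L → app S (bc φ.toRingHom L) = bc φ.toRingHom (app R L)

/-- A vector of polynomials without a common nonunit divisor. -/
def Prim (f : Fin n → MvPolynomial (Fin n) K) : Prop :=
  ∀ c, (∀ i, c ∣ f i) → IsUnit c

theorem prim_X (hn : 2 ≤ n) : Prim (fun i => (X i : MvPolynomial (Fin n) K)) := by
  intro c hc
  have hp : Prime (X (⟨0, by omega⟩ : Fin n) : MvPolynomial (Fin n) K) := MvPolynomial.X_prime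
  rcases hp.irreducible.dvd_iff.mp (hc ⟨0, by omega⟩) with h | h
  · exact h
  · have := h.dvd.trans (hc ⟨1, by omega⟩)
    simp [MvPolynomial.X_dvd_X] at this

theorem exists_eq_smul {f w : Fin n → MvPolynomial (Fin n) K} (hf : Prim f)
    {r : FractionRing (MvPolynomial (Fin n) K)}
    (h : ∀ i, algebraMap _ (FractionRing (MvPolynomial (Fin n) K)) (w i) = r * algebraMap _ _ (f i)) :
    ∃ c, ∀ i, w i = c * f i := by
  obtain ⟨a, b, hab, rfl⟩ := IsFractionRing.exists_reduced_fraction (A := MvPolynomial (Fin n) K) r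
  have key : ∀ i, (b : MvPolynomial (Fin n) K) * w i = a * f i := fun i =>
    IsFractionRing.injective (MvPolynomial (Fin n) K) (FractionRing (MvPolynomial (Fin n) K)) (by
      rw [map_mul, map_mul, h i, ← mul_assoc, IsLocalization.mk'_spec'])
  obtain ⟨v, hv⟩ := (hf (b : MvPolynomial (Fin n) K) fun i =>
    hab.symm.dvd_of_dvd_mul_left ⟨w i, (key i).symm⟩).exists_left_inv
  exact ⟨v * a, fun i => by rw [mul_assoc, ← key i, ← mul_assoc, hv, one_mul]⟩

/-- Polynomial representative of a natural map: `Φ (S ∙ a x) = S ∙ a f`. -/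
def Rep (Φ : LineMap K n) (f : Fin n → MvPolynomial (Fin n) K) : Prop :=
  ∀ (S : Type u) [CommRing S] [Algebra K S] (a : MvPolynomial (Fin n) K →ₐ[K] S) (i : Fin n),
    IsUnit (a (X i)) → Φ.app S (Submodule.span S {fun j => a (X j)}) = Submodule.span S {fun j => a (f j)}

variable (Φ : LineMap K n)

theorem exists_rep (hn : 2 ≤ n) :
    ∃ f : Fin n → MvPolynomial (Fin n) K, Prim f ∧ f ≠ 0 ∧ Rep Φ f := by
  let P := MvPolynomial (Fin n) K
  let F := FractionRing P
  let ι : P →ₐ[K] F := IsScalarTower.toAlgHom K P F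
  have hι : Function.Injective ι := IsFractionRing.injective P F
  let i₁ : Fin n := ⟨0, by omega⟩
  have hx : ∀ i, ι (X i) ≠ 0 := fun i e => X_ne_zero i (hι (e.trans (map_zero ι).symm))
  have hLF : IsLine (Φ.app F (Submodule.span F {fun j => ι (X j)})) :=
    Φ.isLine F _ (isLine_of_isUnit _ i₁ (isUnit_iff_ne_zero.mpr (hx i₁)))
  obtain ⟨f₀, i₀, hf₀, hspan⟩ := exists_eq_span (by omega) hLF
  let L₀ := Submodule.span F {f₀}
  -- polynomial vectors in the generic line
  let T : Set (Fin n → P) := {g | g ≠ 0 ∧ (fun j => ι (g j)) ∈ L₀}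
  have hcoord : ∀ g ∈ T, g i₀ ≠ 0 := by
    rintro g ⟨hg, hgL⟩ h0
    obtain ⟨c, hc⟩ := Submodule.mem_span_singleton.mp hgL
    have : c * f₀ i₀ = 0 := (congrFun hc i₀).trans (by simp [h0])
    rcases mul_eq_zero.mp this with h | h
    · refine hg (funext fun j => hι ?_)
      rw [Pi.zero_apply, map_zero, ← congrFun hc j, h, zero_smul, Pi.zero_apply]
    · exact hf₀.ne_zero h
  have hT : T.Nonempty := by
    obtain ⟨b, hb⟩ := IsLocalization.exist_integer_multiples_of_finite (nonZeroDivisors P) f₀
    choose g hg using hb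
    refine ⟨g, fun e => ?_, Submodule.mem_span_singleton.mpr ⟨ι b, funext fun j => ?_⟩⟩
    · have := hg i₀
      rw [e, Pi.zero_apply, map_zero, Algebra.smul_def] at this
      rcases mul_eq_zero.mp this.symm with h | h
      · exact nonZeroDivisors.coe_ne_zero b (hι (h.trans (map_zero ι).symm))
      · exact hf₀.ne_zero h
    · exact ((Algebra.smul_def (b : P) (f₀ j)).symm.trans (hg j).symm)
  obtain ⟨f, ⟨hf0, hfL⟩, hmin⟩ :=
    (InvImage.wf (fun g : Fin n → P => (g i₀).totalDegree) wellFounded_lt).has_min T hT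
  have hfi : f i₀ ≠ 0 := hcoord f ⟨hf0, hfL⟩
  have hfF : ι (f i₀) ≠ 0 := fun e => hfi (hι (e.trans (map_zero ι).symm))
  have hL₀ : L₀ = Submodule.span F {fun j => ι (f j)} := by
    obtain ⟨c, hc⟩ := Submodule.mem_span_singleton.mp hfL
    have hc0 : c ≠ 0 := fun e => hfF (by
      have := congrFun hc i₀
      simpa [e] using this.symm)
    rw [← hc, Submodule.span_singleton_smul_eq (isUnit_iff_ne_zero.mpr hc0)]
  have hprim : Prim f := by
    intro c hc
    choose g hg using hc
    have hc0 : c ≠ 0 := fun e => hfi (by rw [hg i₀, e, zero_mul])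
    have hιc : ι c ≠ 0 := fun e => hc0 (hι (e.trans (map_zero ι).symm))
    have hgT : g ∈ T := by
      refine ⟨fun e => hfi (by rw [hg i₀, e, Pi.zero_apply, mul_zero]), ?_⟩
      have : (fun j => ι (g j)) = (ι c)⁻¹ • fun j => ι (f j) := funext fun j => by
        rw [Pi.smul_apply, smul_eq_mul, hg j, map_mul, inv_mul_cancel_left₀ hιc]
      rw [this]
      exact L₀.smul_mem _ hfL
    have hd : (f i₀).totalDegree = c.totalDegree + (g i₀).totalDegree := by
      rw [hg i₀, MvPolynomial.totalDegree_mul_of_isDomain hc0 (hcoord g hgT)]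
    have : ¬ (g i₀).totalDegree < (f i₀).totalDegree := hmin g hgT
    rw [MvPolynomial.isUnit_iff_totalDegree_of_isReduced]
    have hcd : c.totalDegree = 0 := by omega
    refine ⟨isUnit_iff_ne_zero.mpr fun e => hc0 ?_, hcd⟩
    rw [totalDegree_eq_zero_iff_eq_C.mp hcd, show c.coeff 0 = 0 from e, map_zero]
  refine ⟨f, hprim, hf0, fun S _ _ a i hi => ?_⟩
  -- the chart `x i ≠ 0`
  let R := Localization.Away (X i : P)
  let j : P →ₐ[K] R := IsScalarTower.toAlgHom K P R
  let k : R →ₐ[K] F := IsLocalization.Away.liftAlgHom (x := (X i : P)) (f := ι)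
    (isUnit_iff_ne_zero.mpr (hx i))
  have hkj : ∀ p, k (j p) = ι p := fun p =>
    IsLocalization.Away.lift_eq (X i : P) (g := ι.toRingHom) (isUnit_iff_ne_zero.mpr (hx i)) p
  have hk : Function.Injective k := by
    refine (injective_iff_map_eq_zero k).mpr fun z hz => ?_
    obtain ⟨⟨p, s⟩, hs⟩ := IsLocalization.surj (Submonoid.powers (X i : P)) z
    have hs' : z * j s = j p := hs
    have hp : ι p = 0 := by rw [← hkj, ← hs', map_mul, hz, zero_mul]
    rw [hι (hp.trans (map_zero ι).symm), map_zero] at hs'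
    exact ((IsLocalization.map_units R s).mul_left_eq_zero).mp hs'
  have hline : IsLine (Submodule.span R {fun l => j (X l)}) :=
    isLine_of_isUnit _ i (IsLocalization.Away.algebraMap_isUnit (X i : P))
  let L := Φ.app R (Submodule.span R {fun l => j (X l)})
  have hL : IsLine L := Φ.isLine R _ hline
  have hbcL : bc k.toRingHom L = L₀ := by
    rw [← Φ.nat R F k _ hline, bc_span_singleton]
    have : (k.toRingHom ∘ fun l => j (X l)) = fun l => ι (X l) := funext fun l => hkj _
    rw [this, hspan]
  haveI : IsDomain R := IsLocalization.isDomain_localization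
    (Submonoid.powers_le.mpr (mem_nonZeroDivisors_of_ne_zero (X_ne_zero i)))
  have hfmem : (fun l => j (f l)) ∈ L := by
    obtain ⟨s, hs, w, hw, hsw⟩ := exists_smul_mem_of_mem_bc k.toRingHom (nonZeroDivisors R)
      (fun x => by
        obtain ⟨⟨p, q⟩, hpq⟩ := IsLocalization.surj (nonZeroDivisors P) x
        refine ⟨j q, mem_nonZeroDivisors_of_ne_zero fun e => nonZeroDivisors.coe_ne_zero q (hι ?_), j p, ?_⟩
        · rw [← hkj, e, map_zero, map_zero]
        · show k (j q) * x = k (j p)
          rw [hkj, hkj, mul_comm]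
          exact hpq)
      (x := fun l => ι (f l)) (hbcL ▸ hfL)
    refine hL.mem_of_smul_mem (IsRegular.of_ne_zero (nonZeroDivisors.ne_zero hs)) ?_
    rwa [show s • (fun l => j (f l)) = w from funext fun l => hk (by
      rw [Pi.smul_apply, smul_eq_mul, map_mul, hkj]; exact congrFun hsw l)]
  have hLeq : L = Submodule.span R {fun l => j (f l)} := by
    refine le_antisymm (fun w hw => ?_) ((Submodule.span_singleton_le_iff_mem _ _).mpr hfmem)
    obtain ⟨s, hs⟩ := IsLocalization.exist_integer_multiples_of_finite (Submonoid.powers (X i : P)) w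
    choose p hp using hs
    have hmem : (fun l => k (w l)) ∈ L₀ := hbcL ▸ comp_mem_bc k.toRingHom hw
    rw [hL₀] at hmem
    obtain ⟨r, hr⟩ := Submodule.mem_span_singleton.mp hmem
    have hp' : ∀ l, j (p l) = j s * w l := fun l => by
      refine (hp l).trans ?_; rw [Algebra.smul_def]; rfl
    obtain ⟨c, hc⟩ := exists_eq_smul hprim (w := p) (r := ι s * r) fun l => by
      show ι (p l) = _
      rw [← hkj, hp', map_mul, hkj, ← congrFun hr l, Pi.smul_apply, smul_eq_mul, mul_assoc]
      rfl
    obtain ⟨t, ht⟩ := (IsLocalization.map_units R s).exists_left_inv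
    refine Submodule.mem_span_singleton.mpr ⟨t * j c, funext fun l => ?_⟩
    rw [Pi.smul_apply, smul_eq_mul, mul_assoc, ← map_mul, ← hc, hp', ← mul_assoc]
    show t * algebraMap P R s * w l = w l
    rw [ht, one_mul]
  let ψ : R →ₐ[K] S := IsLocalization.Away.liftAlgHom (x := (X i : P)) (f := a) hi
  have hψ : ∀ p, ψ (j p) = a p := fun p => IsLocalization.Away.lift_eq (X i : P) (g := a.toRingHom) hi p
  have h := Φ.nat R S ψ _ hline
  rw [bc_span_singleton] at h
  rw [show (fun l => a (X l)) = ψ.toRingHom ∘ fun l => j (X l) from funext fun l => (hψ _).symm, h,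
    show Φ.app R (Submodule.span R {fun l => j (X l)}) = L from rfl, hLeq, bc_span_singleton]
  congr 2
  exact funext fun l => hψ _

/-- The coordinates of a polynomial representative are homogeneous of one degree. -/
theorem rep_isHomogeneous (hn : 2 ≤ n) {f : Fin n → MvPolynomial (Fin n) K} (hp : Prim f)
    (hf0 : f ≠ 0) (hf : Rep Φ f) : ∃ d, ∀ i, (f i).IsHomogeneous d := by
  let P := MvPolynomial (Fin n) K
  let E := FractionRing (Polynomial P)
  let F := FractionRing P
  let ι : Polynomial P →ₐ[K] E := IsScalarTower.toAlgHom K (Polynomial P) E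
  have hι : Function.Injective ι := IsFractionRing.injective (Polynomial P) E
  let b : P →ₐ[K] Polynomial P := MvPolynomial.aeval fun l => Polynomial.C (X l) * Polynomial.X
  let C' : P →ₐ[K] Polynomial P := IsScalarTower.toAlgHom K P (Polynomial P)
  let i : Fin n := ⟨0, by omega⟩
  have hC : ∀ p, C' p = Polynomial.C p := fun p => rfl
  have hinj : Function.Injective (ι.comp C') := fun p q e => Polynomial.C_injective (hι e)
  have hT : IsUnit (ι Polynomial.X) := isUnit_iff_ne_zero.mpr fun e =>
    Polynomial.X_ne_zero (hι (e.trans (map_zero ι).symm))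
  have hu : IsUnit ((ι.comp C') (X i)) := isUnit_iff_ne_zero.mpr fun e =>
    X_ne_zero i (hinj (e.trans (map_zero _).symm))
  have hbx : (fun l => (ι.comp b) (X l)) = ι Polynomial.X • fun l => (ι.comp C') (X l) := funext fun l => by
    show ι (b (X l)) = ι Polynomial.X * ι (C' (X l))
    rw [show b (X l) = _ from aeval_X _ _, map_mul, hC, mul_comm]
  have hu' : IsUnit ((ι.comp b) (X i)) := by
    rw [show (ι.comp b) (X i) = _ from congrFun hbx i, Pi.smul_apply, smul_eq_mul]
    exact hT.mul hu
  have h1 := hf E (ι.comp C') i hu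
  have h2 := hf E (ι.comp b) i hu'
  rw [hbx, Submodule.span_singleton_smul_eq hT, h1] at h2
  obtain ⟨c, hc⟩ := Submodule.mem_span_singleton.mp
    ((h2.symm ▸ Submodule.mem_span_singleton_self _ :
      (fun l => (ι.comp b) (f l)) ∈ Submodule.span E {fun l => (ι.comp C') (f l)}))
  have hcross : ∀ l l', b (f l) * Polynomial.C (f l') = b (f l') * Polynomial.C (f l) := fun l l' => hι (by
    have e1 : c * ι (C' (f l)) = ι (b (f l)) := congrFun hc l
    have e2 : c * ι (C' (f l')) = ι (b (f l')) := congrFun hc l'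
    rw [hC] at e1 e2
    rw [map_mul, map_mul, ← e1, ← e2]; ring)
  have hcoeff : ∀ (p : P) (m : ℕ), (b p).coeff m = homogeneousComponent m p := by
    intro p m
    induction p using MvPolynomial.induction_on' with
    | monomial s r =>
      have hb : b (monomial s r) = Polynomial.C (monomial s r) * Polynomial.X ^ s.degree := by
        rw [aeval_monomial, monomial_eq, Finsupp.prod, Finsupp.prod]
        simp only [mul_pow, Finset.prod_mul_distrib, map_mul, map_prod, map_pow, mul_assoc]
        rw [Finset.prod_pow_eq_pow_sum]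
        rfl
      rw [hb, Polynomial.coeff_C_mul_X_pow, homogeneousComponent_of_mem (isHomogeneous_monomial r rfl)]
    | add p q hp' hq' => simp [hp', hq']
  have hm : ∀ l l' m, homogeneousComponent m (f l) * f l' = homogeneousComponent m (f l') * f l := by
    intro l l' m
    have := congrArg (fun q => Polynomial.coeff q m) (hcross l l')
    simpa [Polynomial.coeff_mul_C, hcoeff] using this
  obtain ⟨i₀, hi₀⟩ := Function.ne_iff.mp hf0
  have hi₀' : algebraMap P F (f i₀) ≠ 0 := fun e =>
    hi₀ (IsFractionRing.injective P F (e.trans (map_zero _).symm))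
  obtain ⟨D, hD⟩ : ∃ D, homogeneousComponent D (f i₀) ≠ 0 := by
    by_contra h
    push_neg at h
    exact hi₀ (by rw [← sum_homogeneousComponent (f i₀)]; simp [h])
  obtain ⟨c₀, hc₀⟩ := exists_eq_smul hp (w := fun l => homogeneousComponent D (f l))
    (r := algebraMap P F (homogeneousComponent D (f i₀)) / algebraMap P F (f i₀)) fun l => by
      rw [div_mul_eq_mul_div, eq_div_iff hi₀', ← map_mul, ← map_mul, hm l i₀ D]
  have hc₀0 : c₀ ≠ 0 := fun e => hD (by rw [hc₀ i₀, e, zero_mul])
  have hdeg : c₀.totalDegree = 0 := by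
    have h := congrArg MvPolynomial.totalDegree (hc₀ i₀)
    rw [(homogeneousComponent_isHomogeneous D (f i₀)).totalDegree hD,
      MvPolynomial.totalDegree_mul_of_isDomain hc₀0 hi₀] at h
    have : D ≤ (f i₀).totalDegree := by
      by_contra hlt
      exact hD (homogeneousComponent_eq_zero _ _ (by omega))
    omega
  refine ⟨D, fun l => ?_⟩
  obtain ⟨a, rfl⟩ : ∃ a, c₀ = C a := ⟨_, totalDegree_eq_zero_iff_eq_C.mp hdeg⟩
  have ha : a ≠ 0 := fun e => hc₀0 (by rw [e, map_zero])
  rw [show f l = C a⁻¹ * homogeneousComponent D (f l) by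
    rw [hc₀ l, ← mul_assoc, ← map_mul, inv_mul_cancel₀ ha, map_one, one_mul]]
  exact (homogeneousComponent_isHomogeneous D (f l)).C_mul _

end Groth.Agent.Lib.SBAut
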