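import Groth.Agent.Lib.SBAut.Descent
import Groth.Agent.Lib.GrassRep.AffinePoints
import Mathlib.CategoryTheory.Endomorphism

/-!
# The automorphism group of a Severi–Brauer scheme
-/

universe u

set_option autoImplicit false
set_option linter.style.haveILetI false

open CategoryTheory AlgebraicGeometry
open Groth.Agent.Lib.GrassRep
open scoped TensorProduct

namespace Groth.Agent.Lib.SBAut

variable {k : Type u} [Field k] {A : Type u} [Ring A] [Algebra k A] {c : ℕ}
  {X : Scheme.{u}} {f : X ⟶ Spec (CommRingCat.of k)} (σ : BrSev.SBStr k A c f)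

/-- Points over `k` as morphisms over `Spec k`, read as left ideals. -/
noncomputable def ptsEquiv (R : Type u) [CommRing R] [Algebra k R] :
    (pt k R ⟶ Over.mk f) ≃ BrSev.SBSet k A c R :=
  ({ toFun := fun g => ⟨g.left, Over.w g⟩
     invFun := fun g => Over.homMk g.1 g.2
     left_inv := fun _ => Over.OverMorphism.ext rfl
     right_inv := fun _ => rfl } : (pt k R ⟶ Over.mk f) ≃ BrSev.Pts f R).trans (σ.bij R)

theorem ptsEquiv_nat {R S : Type u} [CommRing R] [Algebra k R] [CommRing S] [Algebra k S]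
    (φ : R →ₐ[k] S) (g : pt k R ⟶ Over.mk f) (g' : pt k S ⟶ Over.mk f)
    (h : g'.left = Sp φ ≫ g.left) : ptsEquiv σ S g' = bcSet φ (ptsEquiv σ R g) := by
  apply sbSet_ext
  rw [bcSet_toSubmodule, ← map_toSubmodule_eq]
  show (σ.bij S ⟨g'.left, Over.w g'⟩).1.toSubmodule = _
  rw [show (⟨g'.left, Over.w g'⟩ : BrSev.Pts f S) = BrSev.Pts.map f φ ⟨g.left, Over.w g⟩ from Subtype.ext h]
  exact σ.natural R S φ _

theorem ptsEquiv_symm_nat {R S : Type u} [CommRing R] [Algebra k R] [CommRing S] [Algebra k S]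
    (φ : R →ₐ[k] S) (N : BrSev.SBSet k A c R) :
    ((ptsEquiv σ S).symm (bcSet φ N)).left = Sp φ ≫ ((ptsEquiv σ R).symm N).left := by
  let p : pt k S ⟶ pt k R := Over.homMk (Sp φ) (Sp_str φ)
  let g' : pt k S ⟶ Over.mk f := p ≫ (ptsEquiv σ R).symm N
  have := ptsEquiv_nat σ φ ((ptsEquiv σ R).symm N) g' rfl
  rw [Equiv.apply_symm_apply] at this
  rw [← this, Equiv.symm_apply_apply]
  rfl

/-- The map of ideal functors of an endomorphism. -/
noncomputable def idealMapOfHom (h : Over.mk f ⟶ Over.mk f) : IdealMap k A c where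
  app R _ _ N := ptsEquiv σ R ((ptsEquiv σ R).symm N ≫ h)
  nat R S _ _ _ _ φ N := ptsEquiv_nat σ φ _ _ (by
    rw [Over.comp_left, Over.comp_left, ptsEquiv_symm_nat]; rfl)

/-- The unit `1 ⊗ a`. -/
noncomputable def unitOf (R : Type u) [CommRing R] [Algebra k R] : Aˣ →* (R ⊗[k] A)ˣ :=
  Units.map (Algebra.TensorProduct.includeRight : A →ₐ[k] R ⊗[k] A).toMonoidHom

@[simp] theorem coe_unitOf (R : Type u) [CommRing R] [Algebra k R] (a : Aˣ) :
    (unitOf (k := k) R a : R ⊗[k] A) = (1 : R) ⊗ₜ (a : A) := rfl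

/-- Right multiplication on points. -/
noncomputable def actPts (a : Aˣ) (R : Type u) [CommRing R] [Algebra k R] :
    (pt k R ⟶ Over.mk f) → (pt k R ⟶ Over.mk f) :=
  fun g => (ptsEquiv σ R).symm (mulSet (unitOf R a⁻¹) (ptsEquiv σ R g))

theorem actPts_natural (a : Aˣ) : IsNatural (fun R _ _ => actPts σ a R) := by
  intro R S _ _ _ _ φ g g' h
  show ((ptsEquiv σ S).symm _).left = _
  rw [ptsEquiv_nat σ φ g g' h]
  have : mulSet (unitOf S a⁻¹) (bcSet φ (ptsEquiv σ R g)) = bcSet φ (mulSet (unitOf R a⁻¹) (ptsEquiv σ R g)) :=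
    sbSet_ext (by
      simp only [mulSet_toSubmodule, bcSet_toSubmodule, coe_unitOf, bcT_mulR, one_tmul_incl])
  rw [this]
  exact ptsEquiv_symm_nat σ φ _

/-- The morphism of a unit. -/
noncomputable def homOfUnit (a : Aˣ) : Over.mk f ⟶ Over.mk f :=
  (exists_hom (fun R _ _ => actPts σ a R) (actPts_natural σ a)).choose

theorem comp_homOfUnit (a : Aˣ) (R : Type u) [CommRing R] [Algebra k R] (g : pt k R ⟶ Over.mk f) :
    g ≫ homOfUnit σ a = actPts σ a R g :=
  (exists_hom (fun R _ _ => actPts σ a R) (actPts_natural σ a)).choose_spec R g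

theorem homOfUnit_one : homOfUnit σ 1 = 𝟙 _ := hom_ext_points fun R _ _ g => by
  rw [comp_homOfUnit, Category.comp_id, actPts, Equiv.symm_apply_eq]
  exact sbSet_ext (by simp [mulR_one])

theorem homOfUnit_mul (a b : Aˣ) : homOfUnit σ (a * b) = homOfUnit σ b ≫ homOfUnit σ a :=
  hom_ext_points fun R _ _ g => by
    rw [← Category.assoc, comp_homOfUnit, comp_homOfUnit, comp_homOfUnit, actPts, actPts, actPts,
      Equiv.apply_symm_apply]
    congr 1
    apply sbSet_ext
    simp only [mulSet_toSubmodule, mulR_mulR, coe_unitOf, Algebra.TensorProduct.tmul_mul_tmul, one_mul,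
      mul_inv_rev, Units.val_mul]

/-- The homomorphism from units to automorphisms. -/
noncomputable def toAut : Aˣ →* Aut (Over.mk f) where
  toFun a := ⟨homOfUnit σ a, homOfUnit σ a⁻¹,
    by rw [← homOfUnit_mul, inv_mul_cancel, homOfUnit_one],
    by rw [← homOfUnit_mul, mul_inv_cancel, homOfUnit_one]⟩
  map_one' := Iso.ext (homOfUnit_one σ)
  map_mul' a b := Iso.ext (homOfUnit_mul σ a b)

variable [Algebra.IsCentral k A] [IsSimpleRing A] {n : ℕ}

theorem toAut_surjective (hn : 0 < n) (hA : Module.finrank k A = n * n)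
    (σ : BrSev.SBStr k A (n * n - n) f) : Function.Surjective (toAut σ) := by
  intro g
  obtain ⟨a, ha⟩ := exists_unit hn hA (idealMapOfHom σ g.hom) (idealMapOfHom σ g.inv)
    fun R _ _ N => by
      show ptsEquiv σ R ((ptsEquiv σ R).symm (ptsEquiv σ R _) ≫ g.inv) = N
      rw [Equiv.symm_apply_apply, Category.assoc, show g.hom ≫ g.inv = 𝟙 _ from Iso.hom_inv_id g,
        Category.comp_id, Equiv.apply_symm_apply]
  refine ⟨a⁻¹, Iso.ext (hom_ext_points fun R _ _ p => ?_)⟩
  show p ≫ homOfUnit σ a⁻¹ = p ≫ g.hom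
  rw [comp_homOfUnit, actPts, inv_inv, Equiv.symm_apply_eq]
  apply sbSet_ext
  rw [mulSet_toSubmodule, coe_unitOf, ← ha R]
  show (ptsEquiv σ R ((ptsEquiv σ R).symm (ptsEquiv σ R p) ≫ g.hom)).1.toSubmodule = _
  rw [Equiv.symm_apply_apply]

theorem toAut_ker (hn : 0 < n) (hA : Module.finrank k A = n * n)
    (σ : BrSev.SBStr k A (n * n - n) f) :
    (toAut σ).ker = (Units.map (algebraMap k A : k →* A)).range := by
  ext a
  rw [MonoidHom.mem_ker, MonoidHom.mem_range]
  constructor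
  · intro h
    obtain ⟨K, _, _, ⟨ψ⟩⟩ := exists_split (k := k) (A := A) hn hA
    have hN : ∀ N : BrSev.SBSet k A (n * n - n) K,
        mulR N.1.toSubmodule (unitOf (k := k) K a⁻¹ : K ⊗[k] A) =
          mulR N.1.toSubmodule ((1 : (K ⊗[k] A)ˣ) : K ⊗[k] A) := fun N => by
      have e : actPts σ a K ((ptsEquiv σ K).symm N) = (ptsEquiv σ K).symm N := by
        rw [← comp_homOfUnit, show homOfUnit σ a = 𝟙 _ from congrArg Iso.hom h, Category.comp_id]
      rw [actPts, Equiv.apply_symm_apply, (ptsEquiv σ K).symm.injective.eq_iff] at e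
      rw [Units.val_one, mulR_one, ← mulSet_toSubmodule, e]
    obtain ⟨s, hs⟩ := eq_smul_of_mulR_eq ψ hn (AlgHom.id k K) hN
    rw [coe_unitOf, Units.val_one] at hs
    have hcen : ∀ x : A, x * ↑a⁻¹ = ↑a⁻¹ * x := fun x => by
      refine Algebra.TensorProduct.includeRight_injective (A := K) (FaithfulSMul.algebraMap_injective k K) ?_
      show (1 : K) ⊗ₜ[k] (x * ↑a⁻¹) = (1 : K) ⊗ₜ[k] (↑a⁻¹ * x)
      rw [← mul_one (1 : K), ← Algebra.TensorProduct.tmul_mul_tmul,
        ← Algebra.TensorProduct.tmul_mul_tmul, hs, mul_smul_comm, smul_mul_assoc, mul_one, one_mul]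
    obtain ⟨r, hr⟩ : ∃ r : k, algebraMap k A r = ↑a⁻¹ := by
      have h' : (↑a⁻¹ : A) ∈ Subalgebra.center k A := Subalgebra.mem_center_iff.mpr hcen
      rw [Algebra.IsCentral.center_eq_bot, Algebra.mem_bot] at h'
      exact h'
    have hr0 : r ≠ 0 := fun e => by
      haveI : Nontrivial A := inferInstance
      exact a⁻¹.ne_zero (by rw [← hr, e, map_zero])
    refine ⟨(Units.mk0 r hr0)⁻¹, ?_⟩
    rw [map_inv, inv_eq_iff_eq_inv]
    exact Units.ext hr
  · rintro ⟨r, rfl⟩
    refine Iso.ext (hom_ext_points fun R _ _ g => ?_)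
    show g ≫ homOfUnit σ _ = g ≫ 𝟙 _
    rw [comp_homOfUnit, Category.comp_id, actPts, Equiv.symm_apply_eq]
    apply sbSet_ext
    rw [mulSet_toSubmodule, coe_unitOf, ← map_inv]
    show mulR _ ((1 : R) ⊗ₜ[k] algebraMap k A ((r⁻¹ : kˣ) : k)) = _
    have : (1 : R) ⊗ₜ[k] algebraMap k A ((r⁻¹ : kˣ) : k) =
        (algebraMap k R ((r⁻¹ : kˣ) : k)) • (1 : R ⊗[k] A) := by
      rw [Algebra.algebraMap_eq_smul_one, TensorProduct.tmul_smul, ← Algebra.TensorProduct.one_def,
        algebraMap_smul]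
    rw [this, mulR_smul _ ((r⁻¹).isUnit.map (algebraMap k R)), mulR_one]

end Groth.Agent.Lib.SBAut
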