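import Groth.Agent.Lib.SBAut.Bridge

/-!
# Natural self maps of the ideal functor of a split algebra
-/

universe u

set_option autoImplicit false
set_option linter.style.haveILetI false

open scoped TensorProduct

namespace Groth.Agent.Lib.SBAut

variable {k : Type u} [Field k] {A : Type u} [Ring A] [Algebra k A]
  {K : Type u} [Field K] [Algebra k K] {n : ℕ}
  (ψ : K ⊗[k] A ≃ₐ[K] Matrix (Fin n) (Fin n) K) (hn : 0 < n)

section OneRing

variable (R : Type u) [CommRing R] [Algebra K R] [Algebra k R] [IsScalarTower k K R]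

/-- The line of a left ideal. -/
noncomputable def toL (N : Submodule R (R ⊗[k] A)) : Submodule R (Fin n → R) :=
  (N.map (psi ψ R).toLinearMap).comap (oneRow ⟨0, hn⟩)

/-- The left ideal of a line, as a submodule. -/
noncomputable def ofL (L : Submodule R (Fin n → R)) : Submodule R (R ⊗[k] A) :=
  (rowsIn L).comap (psi ψ R).toLinearMap

theorem toL_ofL (L : Submodule R (Fin n → R)) : toL ψ hn R (ofL ψ R L) = L := by
  rw [toL, ofL, Submodule.map_comap_eq_of_surjective (f := (psi ψ R).toLinearMap) (psi ψ R).surjective, comap_rowsIn]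

theorem ofL_toL {N : Submodule R (R ⊗[k] A)} (hN : LeftStable N) :
    ofL ψ R (toL ψ hn R N) = N := by
  rw [ofL, toL, eq_rowsIn, Submodule.comap_map_eq_of_injective (f := (psi ψ R).toLinearMap) (psi ψ R).injective]
  rintro a _ ⟨x, hx, rfl⟩
  exact ⟨(psi ψ R).symm a * x, hN _ _ hx, by simp⟩

theorem leftStable_ofL (L : Submodule R (Fin n → R)) : LeftStable (ofL ψ R L) := fun a x hx => by
  show psi ψ R (a * x) ∈ rowsIn L
  rw [map_mul]
  exact rowsIn_left L _ hx

/-- The quotient by the ideal of a line. -/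
noncomputable def quotOfL (L : Submodule R (Fin n → R)) :
    ((R ⊗[k] A) ⧸ ofL ψ R L) ≃ₗ[R] (Fin n → (Fin n → R) ⧸ L) :=
  (Submodule.Quotient.equiv _ _ (psi ψ R).toLinearEquiv
    (Submodule.map_comap_eq_of_surjective (psi ψ R).surjective (rowsIn L))).trans (quotRows L)

theorem rank_pi {Q : Type u} [AddCommGroup Q] [Module R Q] [Module.Projective R Q] [Module.Finite R Q]
    (p : PrimeSpectrum R) : Module.rankAtStalk (Fin n → Q) p = n * Module.rankAtStalk Q p := by
  rw [Module.rankAtStalk_pi, finsum_eq_sum_of_fintype, Finset.sum_const, Finset.card_fin, smul_eq_mul]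

/-- The left ideal of a line. -/
noncomputable def ofLSet (L : Submodule R (Fin n → R)) (hL : IsLine L) :
    BrSev.SBSet k A (n * n - n) R :=
  haveI := hL.projective
  haveI : Module.Projective R (Fin n → (Fin n → R) ⧸ L) := by
    obtain ⟨s, hs⟩ := Module.projective_lifting_property L.mkQ LinearMap.id L.mkQ_surjective
    exact Module.Projective.of_split (s.compLeft (Fin n)) (L.mkQ.compLeft (Fin n))
      (LinearMap.ext fun x => funext fun i => LinearMap.congr_fun hs (x i))
  ⟨{ toSubmodule := ofL ψ R L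
     finite_quotient := Module.Finite.equiv (quotOfL ψ R L).symm
     projective_quotient := Module.Projective.of_equiv (quotOfL ψ R L).symm
     rankAtStalk_eq := fun p => by
       rw [Module.rankAtStalk_eq_of_equiv (quotOfL ψ R L), rank_pi, hL.rank, Nat.mul_sub, mul_one] },
    leftStable_ofL ψ R L⟩

theorem isLine_toL (N : BrSev.SBSet k A (n * n - n) R) : IsLine (toL ψ hn R N.1.toSubmodule) := by
  set L := toL ψ hn R N.1.toSubmodule
  let e : ((R ⊗[k] A) ⧸ N.1.toSubmodule) ≃ₗ[R] (Fin n → (Fin n → R) ⧸ L) :=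
    (Submodule.quotEquivOfEq _ _ (ofL_toL ψ hn R N.2).symm).trans (quotOfL ψ R L)
  haveI : Module.Projective R (Fin n → (Fin n → R) ⧸ L) := Module.Projective.of_equiv e
  haveI hP : Module.Projective R ((Fin n → R) ⧸ L) := Module.Projective.of_split
    (LinearMap.single R (fun _ : Fin n => (Fin n → R) ⧸ L) (⟨0, hn⟩ : Fin n))
    (LinearMap.proj (R := R) (φ := fun _ : Fin n => (Fin n → R) ⧸ L) (⟨0, hn⟩ : Fin n))
    (LinearMap.ext fun x => by simp)
  refine ⟨hP, fun p => ?_⟩
  have h := congrFun (Module.rankAtStalk_eq_of_equiv e) p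
  rw [N.1.rankAtStalk_eq, rank_pi] at h
  rw [← Nat.mul_right_inj hn.ne', ← h, Nat.mul_sub, mul_one]

end OneRing

section Nat

variable {R S : Type u} [CommRing R] [Algebra K R] [Algebra k R] [IsScalarTower k K R]
  [CommRing S] [Algebra K S] [Algebra k S] [IsScalarTower k K S]

theorem toL_bcT (φ : R →ₐ[K] S) (N : Submodule R (R ⊗[k] A)) (hN : LeftStable N) :
    toL ψ hn S (bcT (φ.restrictScalars k) N) = bc φ.toRingHom (toL ψ hn R N) := by
  apply le_antisymm
  · intro v hv
    obtain ⟨x, hx, hxv⟩ := Submodule.mem_comap.mp hv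
    have key : ∀ x ∈ bcT (φ.restrictScalars k) N, ∀ i, psi ψ S x i ∈ bc φ.toRingHom (toL ψ hn R N) := by
      intro x hx
      induction hx using Submodule.span_induction with
      | mem y hy =>
        obtain ⟨w, hw, rfl⟩ := hy
        intro i
        rw [psi_incl]
        refine comp_mem_bc φ.toRingHom (w := psi ψ R w i) ?_
        rw [toL, Submodule.mem_comap, oneRow_row]
        exact ⟨(psi ψ R).symm (Matrix.single ⟨0, hn⟩ i 1) * w, hN _ _ hw, by simp⟩
      | zero => intro i; rw [map_zero]; exact Submodule.zero_mem _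
      | add a b _ _ ha hb => intro i; rw [map_add]; exact Submodule.add_mem _ (ha i) (hb i)
      | smul c a _ ha => intro i; rw [map_smul]; exact Submodule.smul_mem _ c (ha i)
    have := key x hx ⟨0, hn⟩
    rw [show psi ψ S x = oneRow ⟨0, hn⟩ v from hxv, oneRow_apply, if_pos rfl] at this
    exact this
  · refine Submodule.span_le.mpr ?_
    rintro _ ⟨w, hw, rfl⟩
    obtain ⟨x, hx, hxw⟩ := Submodule.mem_comap.mp hw
    refine ⟨incl A (φ.restrictScalars k) x, Submodule.subset_span ⟨x, hx, rfl⟩, ?_⟩
    show psi ψ S _ = _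
    rw [psi_incl, show psi ψ R x = oneRow ⟨0, hn⟩ w from hxw]
    ext i j
    by_cases h : i = (⟨0, hn⟩ : Fin n) <;> simp [oneRow_apply, h]

end Nat

variable (η : IdealMap k A (n * n - n))

/-- The action of a map of ideal functors on lines. -/
noncomputable def appL (R : Type u) [CommRing R] [Algebra K R] (L : Submodule R (Fin n → R)) :
    Submodule R (Fin n → R) :=
  letI : Algebra k R := ((algebraMap K R).comp (algebraMap k K)).toAlgebra
  haveI : IsScalarTower k K R := IsScalarTower.of_algebraMap_eq' rfl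
  open Classical in
  if hL : IsLine L then toL ψ hn R (η.app R (ofLSet ψ R L hL)).1.toSubmodule else ⊥

/-- The map of line functors of a map of ideal functors. -/
noncomputable def toLineMap : LineMap K n where
  app := fun R _ _ => appL ψ hn η R
  isLine := fun R _ _ L hL => by
    letI : Algebra k R := ((algebraMap K R).comp (algebraMap k K)).toAlgebra
    haveI : IsScalarTower k K R := IsScalarTower.of_algebraMap_eq' rfl
    rw [appL, dif_pos hL]
    exact isLine_toL ψ hn R _
  nat := fun R S _ _ _ _ φ L hL => by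
    letI : Algebra k R := ((algebraMap K R).comp (algebraMap k K)).toAlgebra
    haveI : IsScalarTower k K R := IsScalarTower.of_algebraMap_eq' rfl
    letI : Algebra k S := ((algebraMap K S).comp (algebraMap k K)).toAlgebra
    haveI : IsScalarTower k K S := IsScalarTower.of_algebraMap_eq' rfl
    rw [appL, appL, dif_pos hL, dif_pos (isLine_bc _ hL)]
    have h : ofLSet ψ S (bc φ.toRingHom L) (isLine_bc _ hL) =
        bcSet (φ.restrictScalars k) (ofLSet ψ R L hL) := sbSet_ext (by
      rw [bcSet_toSubmodule]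
      show ofL ψ S _ = bcT _ (ofL ψ R L)
      conv_rhs => rw [← ofL_toL ψ hn S (leftStable_bcT _ (leftStable_ofL ψ R L)),
        toL_bcT ψ hn φ _ (leftStable_ofL ψ R L), toL_ofL])
    rw [h, η.nat, bcSet_toSubmodule, toL_bcT ψ hn φ _ (η.app R _).2]

theorem appL_eq (R : Type u) [CommRing R] [Algebra K R] [halg : Algebra k R] [htow : IsScalarTower k K R]
    (L : Submodule R (Fin n → R)) (hL : IsLine L) :
    appL ψ hn η R L = toL ψ hn R (η.app R (ofLSet ψ R L hL)).1.toSubmodule := by
  obtain rfl : halg = ((algebraMap K R).comp (algebraMap k K)).toAlgebra :=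
    Algebra.algebra_ext _ _ fun r => IsScalarTower.algebraMap_apply k K R r
  exact dif_pos hL

include hn ψ in
/-- A natural automorphism of the ideal functor of a split algebra is a right multiplication. -/
theorem exists_unit_over (θ : IdealMap k A (n * n - n))
    (hθ : ∀ (R : Type u) [CommRing R] [Algebra k R] (N : BrSev.SBSet k A (n * n - n) R),
      θ.app R (η.app R N) = N) :
    ∃ b : (K ⊗[k] A)ˣ, ∀ (R : Type u) [CommRing R] [Algebra k R] (φ : K →ₐ[k] R)
      (N : BrSev.SBSet k A (n * n - n) R),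
      (η.app R N).1.toSubmodule = mulR N.1.toSubmodule (incl A φ (b : K ⊗[k] A)) := by
  obtain ⟨g, hg⟩ := exists_gl (Φ := toLineMap ψ hn η) (Ψ := toLineMap ψ hn θ) hn fun R _ _ L hL => by
    letI : Algebra k R := ((algebraMap K R).comp (algebraMap k K)).toAlgebra
    haveI : IsScalarTower k K R := IsScalarTower.of_algebraMap_eq' rfl
    show appL ψ hn θ R (appL ψ hn η R L) = L
    have hL' : IsLine (appL ψ hn η R L) := (toLineMap ψ hn η).isLine R L hL
    rw [appL, dif_pos hL']
    have hA : appL ψ hn η R L = toL ψ hn R (η.app R (ofLSet ψ R L hL)).1.toSubmodule := dif_pos hL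
    have : ofLSet ψ R (appL ψ hn η R L) hL' = η.app R (ofLSet ψ R L hL) :=
      sbSet_ext (by
        show ofL ψ R _ = _
        rw [hA, ofL_toL ψ hn R (η.app R _).2])
    rw [this, hθ]
    exact toL_ofL ψ hn R L
  have hu : IsUnit (ψ.symm (Matrix.transpose (g : Matrix (Fin n) (Fin n) K))) :=
    ((Matrix.isUnit_transpose (g : Matrix (Fin n) (Fin n) K)).mpr g.isUnit).map ψ.symm
  refine ⟨hu.unit, fun R _ halg φ N => ?_⟩
  letI := φ.toAlgebra
  haveI : IsScalarTower k K R := IsScalarTower.of_algebraMap_eq' φ.comp_algebraMap.symm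
  have hL := isLine_toL ψ hn R N
  have h := hg R _ hL
  change appL ψ hn η R _ = _ at h
  rw [appL_eq ψ hn η R _ hL, show ofLSet ψ R _ hL = N from sbSet_ext (ofL_toL ψ hn R N.2)] at h
  rw [IsUnit.unit_spec, ← ofL_toL ψ hn R (η.app R N).2, h]
  conv_rhs => rw [← ofL_toL ψ hn R N.2]
  set L := toL ψ hn R N.1.toSubmodule
  -- right multiplication acts on rows
  have hz : psi ψ R (incl A φ (ψ.symm (Matrix.transpose (g : Matrix (Fin n) (Fin n) K)))) =
      (Matrix.transpose (g : Matrix (Fin n) (Fin n) K)).map (algebraMap K R) := by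
    have := psi_incl ψ K (Algebra.ofId K R) (ψ.symm (Matrix.transpose (g : Matrix (Fin n) (Fin n) K)))
    rw [psi_self, AlgEquiv.apply_symm_apply] at this
    exact this
  have hrow : ∀ (M : Matrix (Fin n) (Fin n) R) (i : Fin n),
      (M * (Matrix.transpose (g : Matrix (Fin n) (Fin n) K)).map (algebraMap K R)) i =
        act (g : Matrix (Fin n) (Fin n) K) R (M i) := fun M i => funext fun j => by
    rw [act_apply, Matrix.mul_apply]
    exact Finset.sum_congr rfl fun l _ => mul_comm _ _
  have hu' : IsUnit ((Matrix.transpose (g : Matrix (Fin n) (Fin n) K)).map (algebraMap K R)) :=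
    ((Matrix.isUnit_transpose (g : Matrix (Fin n) (Fin n) K)).mpr g.isUnit).map (algebraMap K R).mapMatrix
  ext x
  simp only [ofL, mulR, Submodule.mem_comap, Submodule.mem_map, LinearMap.mulRight_apply, mem_rowsIn]
  constructor
  · intro hx
    choose w hw hwx using hx
    refine ⟨(psi ψ R).symm (Matrix.of w), fun i => ?_, (psi ψ R).injective ?_⟩
    · show (psi ψ R ((psi ψ R).symm (Matrix.of w))) i ∈ L
      rw [AlgEquiv.apply_symm_apply]; exact hw i
    · rw [map_mul, hz, AlgEquiv.apply_symm_apply]
      exact funext fun i => (hrow _ i).trans (hwx i)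
  · rintro ⟨y, hy, rfl⟩ i
    refine ⟨psi ψ R y i, hy i, ?_⟩
    show _ = psi ψ R (y * _) i
    rw [map_mul, hz, hrow]

end Groth.Agent.Lib.SBAut
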