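import Groth.Agent.Lib.SBAut.LineGrass
import Groth.Agent.Lib.SBAut.Main
import Groth.Agent.Lib.GrassRep.Represent

/-!
# A Severi–Brauer scheme is split by a splitting field of its algebra
-/

universe u

set_option autoImplicit false
set_option linter.style.haveILetI false

open CategoryTheory CategoryTheory.Limits AlgebraicGeometry
open scoped TensorProduct
open Groth.Agent.Lib.GrassRep

namespace Groth.Agent.Lib.SBAut

variable {k : Type u} [Field k] {A : Type u} [Ring A] [Algebra k A] {n : ℕ}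
  {X : Scheme.{u}} {f : X ⟶ Spec (CommRingCat.of k)}
  {K : Type u} [Field K] [Algebra k K] (ψ : K ⊗[k] A ≃ₐ[K] Matrix (Fin n) (Fin n) K) (hn : 0 < n)

/-- Left ideals over a `K`-algebra are lines. -/
noncomputable def idealLineEquiv (R : Type u) [CommRing R] [Algebra K R] [Algebra k R]
    [IsScalarTower k K R] :
    BrSev.SBSet k A (n * n - n) R ≃ {L : Submodule R (Fin n → R) // IsLine L} where
  toFun N := ⟨toL ψ hn R N.1.toSubmodule, isLine_toL ψ hn R N⟩
  invFun L := ofLSet ψ R L.1 L.2
  left_inv N := sbSet_ext (ofL_toL ψ hn R N.2)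
  right_inv L := Subtype.ext (toL_ofL ψ hn R L.1)

section Points

variable (f K) (R : Type u) [CommRing R] [Algebra K R] [Algebra k R] [IsScalarTower k K R]

theorem algebraMap_spec :
    Spec.map (CommRingCat.ofHom (algebraMap K R)) ≫ Spec.map (CommRingCat.ofHom (algebraMap k K)) =
      Spec.map (CommRingCat.ofHom (algebraMap k R)) := by
  rw [← Spec.map_comp, ← CommRingCat.ofHom_comp, ← IsScalarTower.algebraMap_eq]

/-- `R`-points of `X_K` over `K` are `R`-points of `X` over `k`. -/
noncomputable def bcPtsEquiv : (pt K R ⟶ Over.mk (BrSev.bcTo f K)) ≃ BrSev.Pts f R where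
  toFun g := ⟨g.left ≫ BrSev.proj f K, by
    rw [Category.assoc, pullback.condition, ← Category.assoc, show g.left ≫ pullback.snd _ _ = _ from Over.w g]
    exact algebraMap_spec K R⟩
  invFun g := Over.homMk (pullback.lift g.1 (Spec.map (CommRingCat.ofHom (algebraMap K R)))
    (g.2.trans (algebraMap_spec K R).symm)) (pullback.lift_snd _ _ _)
  left_inv g := Over.OverMorphism.ext (pullback.hom_ext (pullback.lift_fst _ _ _)
    ((pullback.lift_snd _ _ _).trans (Over.w g).symm))
  right_inv g := Subtype.ext (pullback.lift_fst _ _ _)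

end Points

/-- `R`-points of `X_K` as points of the Grassmannian. -/
noncomputable def grPts (σ : BrSev.SBStr k A (n * n - n) f) (R : Type u) [CommRing R] [Algebra K R] :
    (pt K R ⟶ Over.mk (BrSev.bcTo f K)) ≃ Gr K (Fin n → K) (n - 1) R :=
  letI : Algebra k R := ((algebraMap K R).comp (algebraMap k K)).toAlgebra
  haveI : IsScalarTower k K R := IsScalarTower.of_algebraMap_eq' rfl
  (bcPtsEquiv f K R).trans ((σ.bij R).trans ((idealLineEquiv ψ hn R).trans (lineEquiv n K R).symm))

theorem grPts_nat (σ : BrSev.SBStr k A (n * n - n) f) {R S : Type u} [CommRing R] [Algebra K R]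
    [CommRing S] [Algebra K S] (φ : R →ₐ[K] S)
    (g : pt K R ⟶ Over.mk (BrSev.bcTo f K)) (g' : pt K S ⟶ Over.mk (BrSev.bcTo f K))
    (h : g'.left = Sp φ ≫ g.left) :
    grPts ψ hn σ S g' = Module.Grassmannian.map φ (grPts ψ hn σ R g) := by
  letI : Algebra k R := ((algebraMap K R).comp (algebraMap k K)).toAlgebra
  haveI : IsScalarTower k K R := IsScalarTower.of_algebraMap_eq' rfl
  letI : Algebra k S := ((algebraMap K S).comp (algebraMap k K)).toAlgebra
  haveI : IsScalarTower k K S := IsScalarTower.of_algebraMap_eq' rfl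
  apply (lineEquiv n K S).injective
  apply Subtype.ext
  rw [lineEquiv_map]
  show ((lineEquiv n K S) ((lineEquiv n K S).symm (idealLineEquiv ψ hn S (σ.bij S (bcPtsEquiv f K S g'))))).1 =
    bc φ.toRingHom ((lineEquiv n K R) ((lineEquiv n K R).symm (idealLineEquiv ψ hn R (σ.bij R (bcPtsEquiv f K R g))))).1
  rw [Equiv.apply_symm_apply, Equiv.apply_symm_apply]
  show toL ψ hn S (σ.bij S (bcPtsEquiv f K S g')).1.toSubmodule =
    bc φ.toRingHom (toL ψ hn R (σ.bij R (bcPtsEquiv f K R g)).1.toSubmodule)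
  have e : bcPtsEquiv f K S g' = BrSev.Pts.map f (φ.restrictScalars k) (bcPtsEquiv f K R g) := Subtype.ext (by
    show g'.left ≫ BrSev.proj f K = _ ≫ (g.left ≫ BrSev.proj f K)
    rw [h, Category.assoc]
    rfl)
  rw [e, σ.natural R S (φ.restrictScalars k), map_toSubmodule_eq, toL_bcT ψ hn φ _ (σ.bij R _).2]

include ψ hn in
theorem nonempty_splitting (σ : BrSev.SBStr k A (n * n - n) f) :
    Nonempty (BrSev.Splitting f K (n - 1)) := by
  obtain ⟨m, rfl⟩ : ∃ m, n = m + 1 := ⟨n - 1, by omega⟩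
  obtain ⟨Φ, -⟩ := exists_iso_grass (R := K) (M := Fin (m + 1) → K) (k := m)
    (Over.mk (BrSev.bcTo f K)) (fun R => grPts ψ hn σ (R : Type u))
    (fun R S φ g g' h => grPts_nat ψ hn σ φ.hom g g' h)
  obtain ⟨c, hc⟩ := exists_grass_iso_projSpace K m
  exact ⟨⟨(Over.forget _).mapIso Φ ≪≫ c, by
    show (Φ.hom.left ≫ c.hom) ≫ CohB1.ProjSpace.toSpec m K = _
    exact (Category.assoc _ _ _).trans ((congrArg (Φ.hom.left ≫ ·) hc).trans (Over.w Φ.hom))⟩⟩

end Groth.Agent.Lib.SBAut
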