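import Groth.Agent.S15168
import Mathlib.GroupTheory.Schreier
import Mathlib.GroupTheory.FiniteAbelian.Basic
import Mathlib.GroupTheory.Finiteness
import Mathlib.GroupTheory.OrderOfElement
import Mathlib.FieldTheory.Minpoly.Field
import Mathlib.Algebra.CharP.Lemmas
import Mathlib.Algebra.CharP.Frobenius

/-!
# Torsion in units modulo scalars
-/

universe u

set_option autoImplicit false
set_option linter.style.haveILetI false

open Polynomial
open scoped commutatorElement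

namespace Groth.Agent.Lib.SBAut

variable {k : Type u} [Field k] {Q : Type u} [Group Q]

theorem eq_one_iff_mem_range {A : Type u} [Ring A] [Algebra k A] [Nontrivial A] (ξ : Aˣ →* Q)
    (hker : ξ.ker = (Units.map (algebraMap k A : k →* A)).range) (a : Aˣ) :
    ξ a = 1 ↔ (a : A) ∈ (algebraMap k A).range := by
  rw [← MonoidHom.mem_ker, hker]
  constructor
  · rintro ⟨r, rfl⟩; exact ⟨r, rfl⟩
  · rintro ⟨r, hr⟩
    have hr0 : r ≠ 0 := fun e => a.ne_zero (by rw [← hr, e, map_zero])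
    exact ⟨Units.mk0 r hr0, Units.ext hr⟩

/-- A commutative torsion subgroup of exponent `a * b` with `a`, `b` coprime splits. -/
theorem exists_split_subgroups (G : Subgroup Q) (hcomm : ∀ g ∈ G, ∀ h ∈ G, g * h = h * g) {a b : ℕ}
    (hab : Nat.Coprime a b) (hpow : ∀ g ∈ G, g ^ (a * b) = 1) :
    ∃ H S : Subgroup Q, H ≤ G ∧ S ≤ G ∧ (∀ g ∈ G, ∀ h ∈ H, g * h * g⁻¹ ∈ H) ∧ H ⊓ S = ⊥ ∧ H ⊔ S = G ∧
      (∀ h ∈ H, h ^ a = 1) ∧ (∀ s ∈ S, ∀ t ∈ S, s * t = t * s) ∧ (∀ s ∈ S, s ^ b = 1) := by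
  have mk : ∀ t : ℕ, ∃ H : Subgroup Q, ∀ g, g ∈ H ↔ g ∈ G ∧ g ^ t = 1 := fun t =>
    ⟨{ carrier := {g | g ∈ G ∧ g ^ t = 1}
       mul_mem' := fun {x y} hx hy => ⟨G.mul_mem hx.1 hy.1,
         by rw [(show Commute x y from hcomm x hx.1 y hy.1).mul_pow, hx.2, hy.2, one_mul]⟩
       one_mem' := ⟨G.one_mem, one_pow t⟩
       inv_mem' := fun {x} hx => ⟨G.inv_mem hx.1, by rw [inv_pow, hx.2, inv_one]⟩ }, fun g => Iff.rfl⟩
  obtain ⟨H, hH⟩ := mk a
  obtain ⟨S, hS⟩ := mk b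
  refine ⟨H, S, fun g hg => ((hH g).mp hg).1, fun g hg => ((hS g).mp hg).1, fun g hg h hh => ?_, ?_, ?_,
    fun h hh => ((hH h).mp hh).2,
    fun s hs t ht => hcomm s ((hS s).mp hs).1 t ((hS t).mp ht).1, fun s hs => ((hS s).mp hs).2⟩
  · rw [hcomm g hg h ((hH h).mp hh).1, mul_inv_cancel_right]
    exact hh
  · rw [eq_bot_iff]
    intro g hg
    have h := pow_gcd_eq_one.mpr ⟨((hH g).mp hg.1).2, ((hS g).mp hg.2).2⟩
    rw [hab.gcd_eq_one, pow_one] at h
    exact h
  · refine le_antisymm (sup_le (fun g hg => ((hH g).mp hg).1) (fun g hg => ((hS g).mp hg).1)) fun g hg => ?_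
    have hz : g ^ ((a : ℤ) * b) = 1 := by rw [← Nat.cast_mul, zpow_natCast, hpow g hg]
    have h1 : g ^ ((a : ℤ) * a.gcdA b) ∈ S := (hS _).mpr ⟨G.zpow_mem hg _, by
      rw [← zpow_natCast, ← zpow_mul, mul_right_comm, zpow_mul, hz, one_zpow]⟩
    have h2 : g ^ ((b : ℤ) * a.gcdB b) ∈ H := (hH _).mpr ⟨G.zpow_mem hg _, by
      rw [← zpow_natCast, ← zpow_mul, mul_right_comm, mul_comm (b : ℤ) a, zpow_mul, hz, one_zpow]⟩
    have hb := Nat.gcd_eq_gcd_ab a b
    rw [hab.gcd_eq_one] at hb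
    have e : g = g ^ ((b : ℤ) * a.gcdB b) * g ^ ((a : ℤ) * a.gcdA b) := by
      rw [← zpow_add, add_comm, ← hb, Nat.cast_one, zpow_one]
    rw [e]
    exact Subgroup.mul_mem_sup h2 h1

variable {A : Type u} [DivisionRing A] [Algebra k A] [Algebra.IsCentral k A] [FiniteDimensional k A]

theorem pow_eq_one_of_isOfFinOrder (hk : ∀ m : ℕ, 0 < m → (X ^ m - 1 : k[X]).Splits) {n : ℕ}
    (hA : Module.finrank k A = n * n) (ξ : Aˣ →* Q) (hξ : Function.Surjective ξ)
    (hker : ξ.ker = (Units.map (algebraMap k A : k →* A)).range) {g : Q} (hg : IsOfFinOrder g) :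
    g ^ n = 1 := by
  obtain ⟨a, rfl⟩ := hξ g
  obtain ⟨m, hm, hgm⟩ := isOfFinOrder_iff_pow_eq_one.mp hg
  rw [← map_pow, eq_one_iff_mem_range ξ hker, Units.val_pow_eq_pow_val] at hgm
  rw [← map_pow, eq_one_iff_mem_range ξ hker, Units.val_pow_eq_pow_val]
  exact Groth.Agent.S15168.result k hk A n (by rw [hA, sq]) (a : A) ⟨m, hm, hgm⟩

omit [Algebra.IsCentral k A] in
theorem mem_range_of_pow_eq_one (hk : ∀ m : ℕ, 0 < m → (X ^ m - 1 : k[X]).Splits) {x : A} {r : ℕ}
    (hr : 0 < r) (hx : x ^ r = 1) : x ∈ (algebraMap k A).range := by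
  have hint : IsIntegral k x := Algebra.IsIntegral.isIntegral x
  have hdvd : minpoly k x ∣ X ^ r - 1 := minpoly.dvd k x (by simp [hx])
  have hsp := Polynomial.Splits.of_dvd (hk r hr) (by simpa using Polynomial.X_pow_sub_C_ne_zero hr (1 : k)) hdvd
  refine minpoly.natDegree_eq_one_iff.mp ?_
  exact natDegree_eq_of_degree_eq_some
    (Polynomial.Splits.degree_eq_one_of_irreducible hsp (minpoly.irreducible hint))

omit [Algebra.IsCentral k A] in
/-- A finite subgroup of units modulo scalars is commutative. -/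
theorem commute_of_finite (hk : ∀ m : ℕ, 0 < m → (X ^ m - 1 : k[X]).Splits) (ξ : Aˣ →* Q)
    (hξ : Function.Surjective ξ) (hker : ξ.ker = (Units.map (algebraMap k A : k →* A)).range)
    (G : Subgroup Q) [Finite G] : ∀ g ∈ G, ∀ h ∈ G, g * h = h * g := by
  let Γ : Subgroup Aˣ := G.comap ξ
  choose s hs using hξ
  let sec : G → Γ := fun g => ⟨s g, by show ξ (s g) ∈ G; rw [hs]; exact g.2⟩
  have hcen : ∀ z : Γ, ξ (z : Aˣ) = 1 → ∀ y : Γ, Commute z y := by
    intro z hz y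
    obtain ⟨r, hr⟩ := (eq_one_iff_mem_range ξ hker (z : Aˣ)).mp hz
    refine Subtype.ext (Units.ext ?_)
    show ((z : Aˣ) : A) * ((y : Aˣ) : A) = ((y : Aˣ) : A) * ((z : Aˣ) : A)
    rw [← hr, Algebra.commutes]
  have hdec : ∀ x : Γ, ∃ z : Γ, ξ (z : Aˣ) = 1 ∧ x = sec ⟨ξ (x : Aˣ), x.2⟩ * z := fun x =>
    ⟨(sec ⟨ξ (x : Aˣ), x.2⟩)⁻¹ * x, by simp [sec, hs], by rw [mul_inv_cancel_left]⟩
  have hfin : Finite (commutatorSet Γ) := by
    refine ((Set.finite_range fun p : G × G => ⁅sec p.1, sec p.2⁆).subset ?_).to_subtype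
    rintro _ ⟨x, y, rfl⟩
    obtain ⟨z, hz, hx⟩ := hdec x
    obtain ⟨w, hw, hy⟩ := hdec y
    refine ⟨(⟨ξ (x : Aˣ), x.2⟩, ⟨ξ (y : Aˣ), y.2⟩), ?_⟩
    show ⁅_, _⁆ = ⁅x, y⁆
    conv_rhs => rw [hx, hy]
    set a := sec ⟨ξ (x : Aˣ), x.2⟩
    set b := sec ⟨ξ (y : Aˣ), y.2⟩
    have e1 := (hcen z hz (b * w)).eq
    have e2 := (hcen w hw a⁻¹).eq
    rw [commutatorElement_def, commutatorElement_def, mul_inv_rev, mul_inv_rev]
    calc a * b * a⁻¹ * b⁻¹ = a * b * (a⁻¹ * w) * (w⁻¹ * b⁻¹) := by group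
      _ = a * (b * w) * a⁻¹ * (w⁻¹ * b⁻¹) := by rw [← e2]; group
      _ = a * ((b * w) * z) * z⁻¹ * a⁻¹ * (w⁻¹ * b⁻¹) := by group
      _ = a * z * (b * w) * (z⁻¹ * a⁻¹) * (w⁻¹ * b⁻¹) := by rw [← e1]; group
  intro g hg h hh
  let x : Γ := sec ⟨g, hg⟩
  let y : Γ := sec ⟨h, hh⟩
  have hmem : ⁅x, y⁆ ∈ _root_.commutator Γ := Subgroup.commutator_mem_commutator trivial trivial
  obtain ⟨r, hr, hcr⟩ := isOfFinOrder_iff_pow_eq_one.mp
    (isOfFinOrder_of_finite (⟨⁅x, y⁆, hmem⟩ : _root_.commutator Γ))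
  have hcr' : (((⁅x, y⁆ : Γ) : Aˣ) : A) ^ r = 1 :=
    congrArg (fun c : _root_.commutator Γ => ((((c : Γ) : Aˣ)) : A)) hcr
  have h1 := (eq_one_iff_mem_range ξ hker _).mpr (mem_range_of_pow_eq_one hk hr hcr')
  rw [commutatorElement_def] at h1
  simp only [Subgroup.coe_mul, Subgroup.coe_inv, map_mul, map_inv, x, y, sec, hs] at h1
  rw [mul_inv_eq_one, mul_inv_eq_iff_eq_mul] at h1
  exact h1

/-- A finite subgroup of units modulo scalars in characteristic `p` is a product of its parts. -/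
theorem exists_semidirect_units (hk : ∀ m : ℕ, 0 < m → (X ^ m - 1 : k[X]).Splits) {n n' p m : ℕ}
    (hA : Module.finrank k A = n * n) (hn : n = n' * p ^ m) (hcop : Nat.Coprime n' (p ^ m))
    (ξ : Aˣ →* Q) (hξ : Function.Surjective ξ) (hker : ξ.ker = (Units.map (algebraMap k A : k →* A)).range)
    (G : Subgroup Q) [Finite G] :
    ∃ H S : Subgroup Q, H ≤ G ∧ S ≤ G ∧ (∀ g ∈ G, ∀ h ∈ H, g * h * g⁻¹ ∈ H) ∧ H ⊓ S = ⊥ ∧ H ⊔ S = G ∧
      (∀ h ∈ H, h ^ n' = 1) ∧ (∀ s ∈ S, ∀ t ∈ S, s * t = t * s) ∧ (∀ s ∈ S, s ^ (p ^ m) = 1) := by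
  refine exists_split_subgroups G (commute_of_finite hk ξ hξ hker G) hcop fun g hg => ?_
  rw [← hn]
  obtain ⟨r, hr, h⟩ := isOfFinOrder_iff_pow_eq_one.mp (isOfFinOrder_of_finite (⟨g, hg⟩ : G))
  exact pow_eq_one_of_isOfFinOrder hk hA ξ hξ hker
    (isOfFinOrder_iff_pow_eq_one.mpr ⟨r, hr, congrArg Subtype.val h⟩)

/-- Elements `x + c` give arbitrarily large elementary abelian subgroups. -/
theorem exists_subgroup_large {A : Type u} [Ring A] [Algebra k A] [Nontrivial A] [Infinite k]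
    (p : ℕ) [Fact p.Prime] [CharP k p] (ξ : Aˣ →* Q)
    (hker : ξ.ker = (Units.map (algebraMap k A : k →* A)).range) {x : A} {r : k}
    (hx : x ^ p = algebraMap k A r) (hxk : x ∉ (algebraMap k A).range) (N : ℕ) :
    ∃ G : Subgroup Q, Finite G ∧ N < Nat.card G := by
  classical
  haveI : CharP A p := (algebraMap k A).charP_iff_charP p |>.mp inferInstance
  have hp : p ≠ 0 := (Fact.out : p.Prime).ne_zero
  have hpow : ∀ c : k, (x + algebraMap k A c) ^ p = algebraMap k A (r + c ^ p) := fun c => by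
    rw [add_pow_char_of_commute (p := p) (h := Algebra.commute_algebraMap_right c x), hx, ← map_pow, map_add]
  let S : Set k := {c | r + c ^ p ≠ 0}
  have hS : S.Infinite := by
    have hsub : (Sᶜ : Set k).Subsingleton := fun a ha b hb => by
      simp only [S, Set.mem_compl_iff, Set.mem_setOf_eq, not_not] at ha hb
      exact frobenius_inj k p (add_left_cancel (ha.trans hb.symm))
    exact compl_compl S ▸ hsub.finite.infinite_compl
  obtain ⟨T, hTS, hT⟩ := hS.exists_subset_card_eq (N + 1)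
  have hu : ∀ c : T, IsUnit (x + algebraMap k A (c : k)) := fun c =>
    (isUnit_pow_iff hp).mp (by rw [hpow]; exact (Ne.isUnit (hTS c.2)).map _)
  let v : T → Q := fun c => ξ (hu c).unit
  have hvp : ∀ c, v c ^ p = 1 := fun c => by
    rw [← map_pow, eq_one_iff_mem_range ξ hker, Units.val_pow_eq_pow_val, IsUnit.unit_spec, hpow]
    exact ⟨_, rfl⟩
  have hv : Function.Injective v := by
    intro c d h
    have h1 := eq_one_iff_mem_range ξ hker ((hu d).unit⁻¹ * (hu c).unit) |>.mp (by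
      rw [map_mul, map_inv, show ξ (hu c).unit = ξ (hu d).unit from h, inv_mul_cancel])
    obtain ⟨t, ht⟩ := h1
    have h2 : (x + algebraMap k A (d : k)) * algebraMap k A t = x + algebraMap k A (c : k) := by
      rw [ht, Units.val_mul, ← mul_assoc, IsUnit.mul_val_inv, one_mul, IsUnit.unit_spec]
    rw [add_mul, ← map_mul, ← Algebra.commutes, ← Algebra.smul_def] at h2
    have h3 : (1 - t) • x = algebraMap k A ((d : k) * t - c) := by
      rw [sub_smul, one_smul, map_sub]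
      rw [show t • x = x + algebraMap k A (c : k) - algebraMap k A ((d : k) * t) from eq_sub_of_add_eq h2]
      abel
    have ht1 : t = 1 := by
      by_contra hne
      refine hxk ⟨(1 - t)⁻¹ * ((d : k) * t - c), ?_⟩
      rw [map_mul, ← h3, ← Algebra.smul_def, smul_smul, inv_mul_cancel₀ (sub_ne_zero.mpr (Ne.symm hne)),
        one_smul]
    rw [ht1, sub_self, zero_smul, mul_one, eq_comm, map_eq_zero, sub_eq_zero] at h3
    exact Subtype.ext h3.symm
  have hcomm : ∀ a ∈ Set.range v, ∀ b ∈ Set.range v, a * b = b * a := by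
    rintro _ ⟨c, rfl⟩ _ ⟨d, rfl⟩
    rw [← map_mul, ← map_mul]
    congr 1
    refine Units.ext ?_
    simp only [Units.val_mul, IsUnit.unit_spec]
    exact (Commute.add_left ((Commute.refl x).add_right (Algebra.commute_algebraMap_right _ x))
      (Algebra.commute_algebraMap_left _ _)).eq
  let G := Subgroup.closure (Set.range v)
  haveI := Subgroup.isMulCommutative_closure hcomm
  haveI : Group.FG G := by
    have : (Set.range v).Finite := Set.finite_range v
    exact (Group.fg_iff_subgroup_fg G).mpr ((Subgroup.fg_iff G).mpr ⟨_, rfl, this⟩)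
  have hp' : ∀ g ∈ G, g ^ p = 1 := by
    intro g hg
    induction hg using Subgroup.closure_induction with
    | mem a ha => obtain ⟨c, rfl⟩ := ha; exact hvp c
    | one => exact one_pow p
    | mul a b ha hb iha ihb =>
      have : Commute a b := congrArg Subtype.val (mul_comm' (⟨a, ha⟩ : G) ⟨b, hb⟩)
      rw [this.mul_pow, iha, ihb, one_mul]
    | inv a _ iha => rw [inv_pow, iha, inv_one]
  letI : CommGroup G := { (inferInstance : Group G) with mul_comm := mul_comm' }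
  haveI : Finite G := CommGroup.finite_of_fg_isMulTorsion (G := G) fun g => isOfFinOrder_iff_pow_eq_one.mpr
    ⟨p, (Fact.out : p.Prime).pos, Subtype.ext (by simpa using hp' g g.2)⟩
  refine ⟨G, inferInstance, ?_⟩
  have hle := Nat.card_le_card_of_injective (fun c : T => (⟨v c, Subgroup.subset_closure ⟨c, rfl⟩⟩ : G))
    (fun c d h => hv (congrArg Subtype.val h))
  rw [Nat.card_eq_fintype_card, Fintype.card_coe, hT] at hle
  omega

end Groth.Agent.Lib.SBAut
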